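import Cfsg.Agent.Lib.Walter.Ab.Main
import Cfsg.Agent.Lib.Walter.Main
import Cfsg.Agent.Lib.Bender.GoodAll
import Cfsg.Agent.Lib.Bender.ConsSimple
import Cfsg.Agent.Lib.TwoFusion.StrongEmb
import Cfsg.Agent.Lib.S3Simple.Facts
import Cfsg.Agent.Lib.PolarAut.PSUOut
import Cfsg.Agent.S2603
import Cfsg.Agent.S0205
import Cfsg.Agent.Lib.CentralInt.Quot

/-!
A perfect group of automorphisms of a simple group that fixes a strongly closed abelian 2-subgroup pointwise induces
no non-trivial element of it.
-/

set_option autoImplicit false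
set_option linter.unusedSectionVars false
set_option linter.style.haveILetI false

namespace CfsgLib.ClosedCentral

open Cfsg Subgroup

universe u v w

/-- Goldschmidt's theorem on strongly closed abelian 2-subgroups of simple groups (S1169). -/
def Gold : Prop :=
  ∀ (L : Type u) [Group L] [Finite L], IsSimpleGroup L → ∀ (S : Sylow 2 L) (A : Subgroup L), A ≠ ⊥ →
    IsMulCommutative A → IsStronglyClosed A (S : Subgroup L) →
      IsMulCommutative (S : Subgroup L) ∨ ∃ H : Subgroup L, IsStronglyEmbedded H

/-- Solvability of the outer automorphism group along an isomorphism. -/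
theorem solvable_out_of_equiv {K : Type u} [Group K] {K' : Type w} [Group K'] (e : K ≃* K')
    (h : Group.IsSolvable (MulAut K' ⧸ (MulAut.conj (G := K')).range)) :
    Group.IsSolvable (MulAut K ⧸ (MulAut.conj (G := K)).range) := by
  have hmap : (MulAut.conj (G := K')).range.map (MulAut.congr e).symm.toMonoidHom =
      (MulAut.conj (G := K)).range := by
    ext φ
    rw [Subgroup.mem_map_equiv, MulEquiv.symm_symm]
    constructor
    · rintro ⟨x, hx⟩
      refine ⟨e.symm x, (MulAut.congr e).injective ?_⟩
      rw [← hx]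
      ext y
      simp [MulAut.congr]
    · rintro ⟨x, rfl⟩
      refine ⟨e x, ?_⟩
      ext y
      simp [MulAut.congr]
  exact Group.isSolvable_of_surjective
    (f := (QuotientGroup.congr _ _ (MulAut.congr e).symm hmap).toMonoidHom) (MulEquiv.surjective _)

/-- The outer automorphism group of a group with a strongly embedded subgroup is solvable. -/
theorem bender_out_solvable {L : Type u} [Group L] [Finite L] [IsSimpleGroup L] (h : CfsgLib.Bender.IsBenderGroup L) :
    Group.IsSolvable (MulAut L ⧸ (MulAut.conj (G := L)).range) := by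
  rcases h with ⟨F, i1, i2, -, ⟨e⟩⟩ | hs | ⟨F, i1, i2, n, hn, hc, ⟨e⟩⟩
  · exact solvable_out_of_equiv e CfsgLib.WalterAb.psl_out_solvable
  · exact CfsgLib.S3Simple.solvable_out (Or.inl hs)
  · haveI : Fact (Nat.Prime 2) := ⟨Nat.prime_two⟩
    refine solvable_out_of_equiv e ?_
    obtain ⟨φ, -, hcyc, -⟩ := Cfsg.Agent.S2603.result (p := 2) (f := n) (n := 3) (by omega) rfl hc le_rfl (by
      rintro ⟨-, h2⟩
      have := Nat.pow_le_pow_right (n := 2) (by norm_num) hn
      omega)
    haveI : Group.IsSolvable φ.ker := Group.isSolvable_of_comm fun a b => by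
      haveI := hcyc
      letI := IsCyclic.commGroup (α := φ.ker)
      exact mul_comm a b
    haveI : Group.IsSolvable (Multiplicative (ZMod (2 * n))) := Group.isSolvable_of_comm mul_comm
    exact Group.isSolvable_of_ker_le_range φ.ker.subtype φ fun x hx => ⟨⟨x, hx⟩, rfl⟩

/-- The centraliser of an involution in a simple group with a strongly embedded subgroup is solvable. -/
theorem centralizer_solvable {L : Type u} [Group L] [Finite L] [IsSimpleGroup L] {H : Subgroup L}
    (hH : IsStronglyEmbedded H) {a : L} (ha : orderOf a = 2) :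
    Group.IsSolvable (centralizer ({a} : Set L)) := by
  obtain ⟨g, hg⟩ := CfsgLib.StrongEmb.isConj_of_mem hH ha
  haveI := CfsgLib.Bender.solvable
    (CfsgLib.Bender.Assembly.benderHyp.{u} CfsgLib.Bender.Assembly.goodAll)
    (CfsgLib.Bender.hasFour_of_simple hH) hH
  have hb : orderOf (g⁻¹ * a * g) = 2 := by
    rw [show g⁻¹ * a * g = MulAut.conj g⁻¹ a by simp, MulEquiv.orderOf_eq, ha]
  let f : centralizer ({a} : Set L) →* H :=
    ((MulAut.conj g⁻¹).toMonoidHom.comp (centralizer ({a} : Set L)).subtype).codRestrict H fun x => by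
      refine CfsgLib.StrongEmb.mem_of_conj hH hg hb ?_
      show g⁻¹ * x * g⁻¹⁻¹ * (g⁻¹ * a * g) * (g⁻¹ * x * g⁻¹⁻¹)⁻¹ ∈ H
      rw [show g⁻¹ * x * g⁻¹⁻¹ * (g⁻¹ * a * g) * (g⁻¹ * x * g⁻¹⁻¹)⁻¹ = g⁻¹ * ((x : L) * a * (x : L)⁻¹) * g by group,
        mem_centralizer_singleton_iff.mp x.2, mul_inv_cancel_right]
      exact hg
  exact Group.isSolvable_of_isSolvable_injective (f := f) fun x y e =>
    Subtype.ext ((MulAut.conj g⁻¹).injective (congrArg Subtype.val e))

theorem center_eq_bot_of_simple {L : Type u} [Group L] [IsSimpleGroup L] (hna : ¬ IsMulCommutative L) :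
    center L = ⊥ :=
  ((inferInstance : (center L).Normal).eq_bot_or_eq_top).resolve_right fun h =>
    hna ⟨⟨fun x y => (mem_center_iff.mp (h.ge (mem_top x)) y).symm⟩⟩

/-- An element of the group fixed with the subgroup is not induced by the perfect group. -/
theorem false_of_fix (hG : Gold.{u}) {L : Type u} [Group L] [Finite L] [IsSimpleGroup L]
    (hna : ¬ IsMulCommutative L) (P : Sylow 2 L) {A : Subgroup L} (hAP : IsStronglyClosed A (P : Subgroup L))
    (hA : IsMulCommutative A) {a : L} (haA : a ∈ A) (ha : orderOf a = 2) {X : Type v} [Group X]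
    (hX : commutator X = ⊤) (f : X →* MulAut L) (hf : ∀ x, ∀ y ∈ A, f x y = y) (hfa : ∃ x, f x = MulAut.conj a) :
    False := by
  haveI : Fact (Nat.Prime 2) := ⟨Nat.prime_two⟩
  have hcen := center_eq_bot_of_simple hna
  have ha1 : a ≠ 1 := fun e => by rw [e, orderOf_one] at ha; omega
  have hconj : MulAut.conj a ≠ 1 := fun e => by
    refine ha1 ?_
    rw [← mem_bot, ← hcen, mem_center_iff]
    intro y
    have h1 : a * y * a⁻¹ = y := DFunLike.congr_fun e y
    rw [mul_inv_eq_iff_eq_mul] at h1
    exact h1.symm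
  have hA1 : A ≠ ⊥ := fun e => ha1 (mem_bot.mp (e ▸ haA))
  rcases hG L inferInstance P A hA1 hA hAP with hab | ⟨H, hH⟩
  · have habs : ∀ Q : Sylow 2 L, IsMulCommutative (Q : Subgroup L) := fun Q => by
      haveI := hab
      exact ⟨⟨fun x y => (Sylow.equiv P Q).symm.injective (by rw [map_mul, map_mul]; exact hab.1.comm _ _)⟩⟩
    have hl := CfsgLib.WalterAb.listed_of_P (fun Y _ _ => CfsgLib.Walter.p_all Y) L inferInstance hna habs
    rcases hl.perfect_fix hAP.1 hA1 hX f hf with h1 | ⟨h2, -⟩
    · obtain ⟨x, hx⟩ := hfa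
      exact hconj (by rw [← hx, h1, MonoidHom.one_apply])
    · -- a strongly closed subgroup of order two gives an isolated involution
      have huniq : ∀ y ∈ A, y ≠ 1 → y = a := fun y hy hy1 => by
        obtain ⟨u, -, hu⟩ := Nat.card_eq_two_iff' (1 : A) |>.mp h2
        exact congrArg Subtype.val ((hu ⟨y, hy⟩ fun e => hy1 (congrArg Subtype.val e)).trans
          (hu ⟨a, haA⟩ fun e => ha1 (congrArg Subtype.val e)).symm)
      have hiso := CfsgLib.ZStar.isolated_of_sylow P ha (hAP.1 haA) fun g hg =>
        huniq _ (hAP.2 a haA g hg) fun e => ha1 (conj_eq_one_iff.mp e)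
      have hO : pPrimeCore 2 L = ⊥ := by
        refine ((inferInstance : (pPrimeCore 2 L).Normal).eq_bot_or_eq_top).resolve_right fun e => ?_
        have hcop := card_pPrimeCore_coprime (G := L) 2
        rw [e, card_top] at hcop
        exact absurd (Nat.coprime_two_right.mp hcop)
          (Nat.not_odd_iff_even.mpr (even_iff_two_dvd.mpr (ha ▸ orderOf_dvd_natCard a)))
      refine ha1 ?_
      rw [← mem_bot, ← hcen, mem_center_iff]
      intro g
      have h1 := CfsgLib.ZStar.commutator_mem ha hiso g
      rw [hO, mem_bot, mul_inv_eq_iff_eq_mul, one_mul, mul_inv_eq_iff_eq_mul] at h1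
      exact h1.symm
  · haveI := bender_out_solvable (CfsgLib.Bender.isBenderGroup_of_stronglyEmbedded
      (CfsgLib.Bender.Assembly.benderHyp.{u} CfsgLib.Bender.Assembly.goodAll)
      CfsgLib.Bender.Assembly.suzukiHyp hH)
    have hinn : ∀ x, f x ∈ (MulAut.conj (G := L)).range := fun x => by
      have h1 := CfsgLib.CentralInt.perfect_le_ker (P := (⊤ : Subgroup X)) hX
        ((QuotientGroup.mk' (MulAut.conj (G := L)).range).comp f) (mem_top x)
      exact (QuotientGroup.eq_one_iff _).mp h1
    choose g hg using hinn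
    have hinj : Function.Injective (MulAut.conj (G := L)) := fun x y e => by
      have : y⁻¹ * x ∈ center L := mem_center_iff.mpr fun z => by
        have h1 : x * z * x⁻¹ = y * z * y⁻¹ := DFunLike.congr_fun e z
        calc z * (y⁻¹ * x) = y⁻¹ * (y * z * y⁻¹) * x := by group
          _ = y⁻¹ * (x * z * x⁻¹) * x := by rw [h1]
          _ = y⁻¹ * x * z := by group
      rw [hcen, mem_bot, inv_mul_eq_one] at this
      exact this.symm
    have hmul : ∀ x y, g (x * y) = g x * g y := fun x y => hinj (by rw [map_mul, hg, hg, hg, map_mul])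
    have hfix : ∀ x, g x ∈ centralizer ({a} : Set L) := fun x => by
      have h1 := hf x a haA
      rw [← hg, MulAut.conj_apply, mul_inv_eq_iff_eq_mul] at h1
      exact mem_centralizer_singleton_iff.mpr h1
    haveI := centralizer_solvable hH ha
    let φ : X →* centralizer ({a} : Set L) := MonoidHom.mk' (fun x => ⟨g x, hfix x⟩) fun x y => Subtype.ext (hmul x y)
    obtain ⟨x, hx⟩ := hfa
    have h1 : φ x = 1 := CfsgLib.CentralInt.perfect_le_ker (P := (⊤ : Subgroup X)) hX φ (mem_top x)
    refine hconj ?_
    rw [← hx, ← hg, show g x = 1 from congrArg Subtype.val h1, map_one]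

end CfsgLib.ClosedCentral
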