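import Cfsg.Agent.Lib.ClosedCentral.Fusion
import Cfsg.Agent.Lib.ClosedCentral.Simple
import Cfsg.Agent.Lib.CentralInt.Core
import Cfsg.Agent.Lib.PRegularClass
import Cfsg.Agent.Lib.Comp.Layer
import Cfsg.Agent.S1250

/-!
An involution of a strongly closed `T` that lies in `C(T)^∞` and is not central forces `C(T)^∞` to be normal, in a group
with trivial odd core all of whose smaller groups satisfy the statement.

If `O₂(G) ≠ 1` it commutes with the involutions and one descends to `G / O₂(G)`; otherwise Z* and Goldschmidt's theorem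
for the components show that these involutions centralise the layer.
-/

set_option autoImplicit false
set_option linter.unusedSectionVars false
set_option linter.style.haveILetI false

namespace CfsgLib.ClosedCentral

open Cfsg Subgroup CfsgLib.Comp
open scoped commutatorElement

universe u

/-- The statement proved by induction. -/
def Stmt (X : Type u) [Group X] : Prop :=
  ∀ (S : Sylow 2 X) (T : Subgroup X), IsStronglyClosed T (S : Subgroup X) → (pPrimeCore 2 X ⊔ res T).Normal

variable {G : Type u} [Group G] [Finite G]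

/-- The residual inside a subgroup containing `C(T)`. -/
theorem res_sub {F T : Subgroup G} (hT : T ≤ F) (hC : centralizer (T : Set G) ≤ F) :
    (res (T.subgroupOf F)).map F.subtype = res T := by
  have h : (centralizer ((T.subgroupOf F : Subgroup F) : Set F)).map F.subtype = centralizer (T : Set G) := by
    ext x
    constructor
    · rintro ⟨y, hy, rfl⟩ t ht
      exact congrArg Subtype.val (hy ⟨t, hT ht⟩ ht)
    · exact fun hx => ⟨⟨x, hC hx⟩, fun t ht => Subtype.ext (hx t ht), rfl⟩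
  show (CfsgLib.CentralInt.perfCore _).map _ = CfsgLib.CentralInt.perfCore _
  rw [perfCore_map_injective _ F.subtype_injective, h]

/-- Strong closure in a subgroup. -/
theorem closed_sub {S : Sylow 2 G} {T F : Subgroup G} (h : IsStronglyClosed T (S : Subgroup G)) :
    IsStronglyClosed (T.subgroupOf F) ((S : Subgroup G).subgroupOf F) :=
  ⟨fun _ hx => h.1 hx, fun x hx g hg => h.2 x hx g hg⟩

/-- A 2-subgroup over a subgroup of odd index is equal to it. -/
theorem eq_of_odd {K A B : Subgroup G} (hB : IsPGroup 2 B) (hAB : A ≤ B) (hBK : B ≤ K) (hodd : Odd (A.relIndex K)) :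
    B ≤ A := by
  haveI : Fact (Nat.Prime 2) := ⟨Nat.prime_two⟩
  refine relIndex_eq_one.mp ?_
  obtain ⟨n, hn⟩ := IsPGroup.iff_card.mp hB
  exact Nat.eq_one_of_dvd_coprimes ((Nat.coprime_two_left.mpr hodd).pow_left n) (hn ▸ relIndex_dvd_card _ _)
    ⟨_, (relIndex_mul_relIndex _ _ _ hAB hBK).symm⟩

/-- A normal subgroup with odd index over a central 2-subgroup lies in `O₂` when the odd core is trivial. -/
theorem le_of_central_odd {Z K : Subgroup G} [K.Normal] (hO : pPrimeCore 2 G = ⊥) (hZK : Z ≤ K) (hZ : IsPGroup 2 Z)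
    (hc : ∀ z ∈ Z, ∀ k ∈ K, z * k = k * z) (hodd : Odd (Z.relIndex K)) : K ≤ Z := by
  haveI : Fact (Nat.Prime 2) := ⟨Nat.prime_two⟩
  haveI : (Z.subgroupOf K).Normal := ⟨fun x hx g => by
    have hxg : x * g = g * x := Subtype.ext (hc x hx g g.2)
    rw [← hxg, mul_inv_cancel_right]
    exact hx⟩
  have hcop : (Nat.card (Z.subgroupOf K)).Coprime (Z.subgroupOf K).index := by
    obtain ⟨n, hn⟩ := IsPGroup.iff_card.mp hZ
    rw [Nat.card_congr (subgroupOfEquivOfLe hZK).toEquiv, hn]
    exact (Nat.coprime_two_left.mpr hodd).pow_left n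
  obtain ⟨J, hJ⟩ := exists_right_complement'_of_coprime hcop
  have hJc : Nat.card J = (Z.subgroupOf K).index := hJ.symm.index_eq_card.symm
  haveI : J.Normal := by
    refine ⟨fun j hj k => ?_⟩
    obtain ⟨⟨⟨y, hy⟩, ⟨j', hj'⟩⟩, rfl, -⟩ := hJ.existsUnique k
    have hyc : ∀ x : K, y * x = x * y := fun x => Subtype.ext (hc y hy x x.2)
    show y * j' * j * (y * j')⁻¹ ∈ J
    rw [show y * j' * j * (y * j')⁻¹ = y * (j' * j * j'⁻¹) * y⁻¹ by group, hyc, mul_inv_cancel_right]
    exact J.mul_mem (J.mul_mem hj' hj) (J.inv_mem hj')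
  have hJbot : J = ⊥ := by
    have h1 : J.map K.subtype ≤ pPrimeCore 2 G :=
      (map_mono (CfsgLib.le_pPrimeCore (by rw [hJc]; exact Nat.coprime_two_right.mpr hodd))).trans
        (CfsgLib.map_pPrimeCore_le 2 K)
    rw [hO, le_bot_iff, map_eq_bot_iff_of_injective _ K.subtype_injective] at h1
    exact h1
  have htop := hJ.isCompl.sup_eq_top
  rw [hJbot, sup_bot_eq] at htop
  exact subgroupOf_eq_top.mp htop

/-- The odd core of a normal subgroup is trivial. -/
theorem core_normal_eq_bot (hO : pPrimeCore 2 G = ⊥) (K : Subgroup G) [K.Normal] : pPrimeCore 2 ↥K = ⊥ := by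
  have h := CfsgLib.map_pPrimeCore_le 2 K
  rw [hO, le_bot_iff, map_eq_bot_iff_of_injective _ K.subtype_injective] at h
  exact h

variable {S : Sylow 2 G} {T : Subgroup G}

/-- A normal non-central subgroup of `Z(T)` gives the result. -/
theorem res_normal_of_normal (ih : ∀ (X : Type u) [Group X] [Finite X], Nat.card X < Nat.card G → Stmt X)
    (hO : pPrimeCore 2 G = ⊥) (hT : IsStronglyClosed T (S : Subgroup G)) {A : Subgroup G} [A.Normal] (hAT : A ≤ T)
    (hAc : ∀ a ∈ A, ∀ t ∈ T, t * a = a * t) (hAz : ¬ A ≤ center G) : (res T).Normal := by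
  haveI : Fact (Nat.Prime 2) := ⟨Nat.prime_two⟩
  set C := centralizer (A : Set G) with hC
  haveI : C.Normal := by rw [hC]; infer_instance
  have hCne : C ≠ ⊤ := fun e => hAz fun a ha => mem_center_iff.mpr fun g => ((e.ge (mem_top g) : g ∈ C) a ha).symm
  have hTC : T ≤ C := fun t ht a ha => (hAc a ha t ht).symm
  have hCT : centralizer (T : Set G) ≤ C := fun x hx a ha => hx a (hAT ha)
  have hlt : Nat.card C < Nat.card G :=
    lt_of_le_of_ne (card_le_card_group C) fun e => hCne (eq_top_of_card_eq C e)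
  let SC : Sylow 2 C := (S.2.comap_of_injective C.subtype C.subtype_injective).toSylow (by
    show ¬ 2 ∣ (S : Subgroup G).relIndex C
    rw [← inf_relIndex_right]
    exact CfsgLib.ZCReduction.sylow_inf S C)
  have hN := ih C hlt SC (T.subgroupOf C) (closed_sub hT)
  rw [core_normal_eq_bot hO C, bot_sup_eq] at hN
  have hres := res_sub hTC hCT
  refine ⟨fun h hh g => ?_⟩
  obtain ⟨k, hk, m, hm, rfl⟩ := frattini_split (F := ⊤) (K := C) (U := (S : Subgroup G)) le_top
    (normalizer_eq_top C).ge S.2 (by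
      rw [relIndex_top_right]
      exact Nat.odd_iff.mpr (Nat.two_dvd_ne_zero.mp S.not_dvd_index)) (mem_top g)
  have hmT : ∀ t, t ∈ T ↔ m * t * m⁻¹ ∈ T := fun t =>
    ⟨fun ht => hT.2 t ht m ((mem_normalizer_iff.mp hm.2 t).mp ⟨hT.1 ht, hTC ht⟩).1, fun ht => by
      have h1 : t ∈ (S : Subgroup G) ⊓ C := (mem_normalizer_iff.mp hm.2 t).mpr ⟨hT.1 ht, hTC ht⟩
      have h2 := hT.2 _ ht m⁻¹ (by
        rw [show m⁻¹ * (m * t * m⁻¹) * m⁻¹⁻¹ = t by group]
        exact h1.1)
      simpa [mul_assoc] using h2⟩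
  have h1 := res_conj hmT hh
  obtain ⟨⟨x, hxC⟩, hx, e⟩ := hres.ge h1
  refine hres.le ⟨⟨k, hk⟩ * ⟨x, hxC⟩ * ⟨k, hk⟩⁻¹, hN.conj_mem _ hx _, ?_⟩
  have e' : x = m * h * m⁻¹ := e
  show k * x * k⁻¹ = k * m * h * (k * m)⁻¹
  rw [e']; group

/-- The involutions of `T` in the residual. -/
def invol (T : Subgroup G) : Subgroup G where
  carrier := {x | x ∈ res T ⊓ T ∧ x * x = 1}
  one_mem' := ⟨one_mem _, mul_one 1⟩
  mul_mem' {a b} ha hb := ⟨mul_mem ha.1 hb.1, by
    have h : b * a = a * b := res_commute ha.1.1 hb.1.2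
    calc a * b * (a * b) = a * (b * a) * b := by group
      _ = a * a * (b * b) := by rw [h]; group
      _ = 1 := by rw [ha.2, hb.2, one_mul]⟩
  inv_mem' {a} ha := ⟨inv_mem ha.1, by rw [← _root_.mul_inv_rev, ha.2, inv_one]⟩

theorem invol_comm {a b : G} (ha : a ∈ invol T) (hb : b ∈ T) : b * a = a * b := res_commute ha.1.1 hb

theorem invol_closed (hT : IsStronglyClosed T (S : Subgroup G))
    (hR : IsStronglyClosed (res T ⊓ (S : Subgroup G)) (S : Subgroup G)) :
    IsStronglyClosed (invol T) (S : Subgroup G) :=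
  ⟨fun x hx => hT.1 hx.1.2, fun x hx g hg =>
    ⟨⟨(hR.2 x ⟨hx.1.1, hT.1 hx.1.2⟩ g hg).1, hT.2 x hx.1.2 g hg⟩, by
      rw [show g * x * g⁻¹ * (g * x * g⁻¹) = g * (x * x) * g⁻¹ by group, hx.2, mul_one, mul_inv_cancel]⟩⟩

theorem component_center_eq_bot (hF : fittingSubgroup G = ⊥) {L : Subgroup G} (hL : IsComponent L) :
    center ↥L = ⊥ := by
  have h := CfsgLib.isSubnormal_nilpotent_le_fitting
    (S := (center ↥L).map L.subtype)
    ((Subgroup.Normal.isSubnormal (H := center ↥L) inferInstance).trans' hL.1)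
    (CfsgLib.Comp.nilpotent_of_comm (by
      rintro _ ⟨x, hx, rfl⟩ _ ⟨y, -, rfl⟩
      exact congrArg Subtype.val (mem_center_iff.mp hx y).symm))
  rw [hF, le_bot_iff, map_eq_bot_iff_of_injective _ L.subtype_injective] at h
  exact h

theorem component_simple (hF : fittingSubgroup G = ⊥) {L : Subgroup G} (hL : IsComponent L) :
    IsSimpleGroup ↥L ∧ ¬ IsMulCommutative ↥L := by
  have hc := component_center_eq_bot hF hL
  haveI := hL.2.2
  let e : ↥L ⧸ center ↥L ≃* ↥L := (QuotientGroup.quotientMulEquivOfEq hc).trans QuotientGroup.quotientBot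
  refine ⟨e.symm.isSimpleGroup, fun h => ?_⟩
  have htop : center ↥L = ⊤ := eq_top_iff.mpr fun x _ => mem_center_iff.mpr fun y => h.1.comm y x
  haveI := CfsgLib.isQuasisimple_nontrivial hL.2
  rw [hc] at htop
  exact bot_ne_top htop

theorem component_conj {L : Subgroup G} (hL : IsComponent L) (g : G) :
    IsComponent (L.map (MulAut.conj g).toMonoidHom) :=
  CfsgLib.isComponent_map_equiv (MulAut.conj g) hL

/-- A component containing a fixed non-identity element is normalised by what fixes the element. -/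
theorem component_normalizes (hF : fittingSubgroup G = ⊥) {L : Subgroup G} (hL : IsComponent L) {a h : G}
    (ha : a ∈ L) (ha1 : a ≠ 1) (hh : h * a = a * h) : h ∈ normalizer (L : Set G) := by
  rcases CfsgLib.components_eq_or_commute hL (component_conj hL h) with e | hcm
  · exact mem_normalizer_of_maps fun x hx => e.symm ▸ ⟨x, hx, rfl⟩
  · have ha' : a ∈ L.map (MulAut.conj h).toMonoidHom :=
      ⟨a, ha, by show h * a * h⁻¹ = a; rw [hh, mul_inv_cancel_right]⟩
    have hz : (⟨a, ha⟩ : ↥L) ∈ center ↥L := mem_center_iff.mpr fun y =>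
      Subtype.ext (CfsgLib.Comp.comm_of_commutator_eq_bot hcm y.2 ha')
    rw [component_center_eq_bot hF hL, mem_bot] at hz
    exact absurd (congrArg Subtype.val hz) ha1

/-- The involutions of `T` in the residual meet no component. -/
theorem invol_inf_component (hG : Gold.{u}) (hF : fittingSubgroup G = ⊥) (hT : IsStronglyClosed T (S : Subgroup G))
    (hR : IsStronglyClosed (res T ⊓ (S : Subgroup G)) (S : Subgroup G)) {L : Subgroup G} (hL : IsComponent L) :
    invol T ⊓ L = ⊥ := by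
  haveI : Fact (Nat.Prime 2) := ⟨Nat.prime_two⟩
  by_contra hne
  obtain ⟨a, ⟨haD, haL⟩, ha1⟩ := (bot_or_exists_ne_one _).resolve_left hne
  obtain ⟨hs, hna⟩ := component_simple hF hL
  haveI := hs
  have hD := invol_closed hT hR
  obtain ⟨P, hP⟩ := CfsgLib.CentralInt.exists_sylow_inf S hL
  have hHN : res T ≤ normalizer (L : Set G) := fun x hx =>
    component_normalizes hF hL haL ha1 (res_commute hx haD.1.2).symm
  have hX : commutator ↥(res T) = ⊤ := map_injective (res T).subtype_injective (by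
    rw [_root_.commutator_def, map_commutator, ← MonoidHom.range_eq_map, range_subtype, res_perfect])
  refine false_of_fix hG hna P (A := (invol T).subgroupOf L) ⟨fun x hx => (hP x).mpr (hD.1 hx),
    fun x hx g hg => hD.2 (x : G) hx (g : G) ((hP _).mp hg)⟩
    ⟨⟨fun x y => Subtype.ext (Subtype.ext (invol_comm y.2 x.2.1.2))⟩⟩
    (a := ⟨a, haL⟩) haD ?_ hX (L.normalizerMonoidHom.comp (Subgroup.inclusion hHN))
    (fun x y hy => Subtype.ext (by
      show (x : G) * (y : G) * (x : G)⁻¹ = (y : G)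
      have hxy : (y : G) * (x : G) = (x : G) * (y : G) := res_commute x.2 hy.1.2
      rw [← hxy, mul_inv_cancel_right]))
    ⟨⟨a, haD.1.1⟩, MulEquiv.ext fun y => rfl⟩
  rw [Subgroup.orderOf_mk]
  exact orderOf_eq_prime (by rw [pow_two]; exact haD.2) ha1

/-- An element of `invol T` normalising a component centralises it. -/
theorem invol_centralizes (hG : Gold.{u}) (hF : fittingSubgroup G = ⊥) (hT : IsStronglyClosed T (S : Subgroup G))
    (hR : IsStronglyClosed (res T ⊓ (S : Subgroup G)) (S : Subgroup G)) {L : Subgroup G} (hL : IsComponent L)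
    {δ : G} (hδ : δ ∈ invol T) (hδN : δ ∈ normalizer (L : Set G)) : δ ∈ centralizer (L : Set G) := by
  haveI : Fact (Nat.Prime 2) := ⟨Nat.prime_two⟩
  rcases eq_or_ne δ 1 with rfl | hδ1
  · exact one_mem _
  have hD := invol_closed hT hR
  have hbot := invol_inf_component hG hF hT hR hL
  obtain ⟨hs, hna⟩ := component_simple hF hL
  haveI := hs
  obtain ⟨P, hP⟩ := CfsgLib.CentralInt.exists_sylow_inf S hL
  set X := L ⊔ zpowers δ with hX
  have hδX : δ ∈ X := mem_sup_right (mem_zpowers δ)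
  have hLX : L ≤ X := le_sup_left
  have hz : zpowers δ ≤ normalizer (L : Set G) := zpowers_le.mpr hδN
  have hQ : IsPGroup 2 ((((S : Subgroup G) ⊓ L) ⊔ zpowers δ).subgroupOf X) :=
    (S.2.to_le (sup_le inf_le_left (zpowers_le.mpr (hD.1 hδ)))).comap_of_injective X.subtype X.subtype_injective
  obtain ⟨P', hP'⟩ := hQ.exists_le_sylow
  have hu : orderOf (⟨δ, hδX⟩ : ↥X) = 2 := by
    rw [Subgroup.orderOf_mk]; exact orderOf_eq_prime (by rw [pow_two]; exact hδ.2) hδ1
  have huP : (⟨δ, hδX⟩ : ↥X) ∈ (P' : Subgroup ↥X) := hP' (show δ ∈ (S : Subgroup G) ⊓ L ⊔ zpowers δ from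
    mem_sup_right (mem_zpowers δ))
  have hodd : Odd (((S : Subgroup G) ⊓ L).relIndex L) := by
    rw [inf_relIndex_right]
    refine Nat.odd_iff.mpr (Nat.two_dvd_ne_zero.mp ?_)
    have h := P.not_dvd_index
    rwa [show (P : Subgroup ↥L) = (S : Subgroup G).subgroupOf L from Subgroup.ext hP] at h
  have hPL : (P' : Subgroup ↥X).map X.subtype ⊓ L ≤ (S : Subgroup G) ⊓ L :=
    eq_of_odd ((P'.2.map _).to_le inf_le_left)
      (fun x hx => ⟨⟨⟨x, hLX hx.2⟩, hP' (show x ∈ (S : Subgroup G) ⊓ L ⊔ zpowers δ from mem_sup_left hx), rfl⟩, hx.2⟩)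
      inf_le_right hodd
  have hiso := CfsgLib.ZStar.isolated_of_sylow P' hu huP fun g hg => by
    refine Subtype.ext ?_
    show (g : G) * δ * (g : G)⁻¹ = δ
    have hg' : (g : G) ∈ ((L ⊔ zpowers δ : Subgroup G) : Set G) := g.2
    rw [coe_mul_of_right_le_normalizer_left _ _ hz] at hg'
    obtain ⟨l, hl, d, hd, e⟩ := hg'
    obtain ⟨i, rfl⟩ := mem_zpowers_iff.mp hd
    have e1 : (g : G) * δ * (g : G)⁻¹ = l * δ * l⁻¹ := by rw [← e]; group
    have hl0 : l * δ * l⁻¹ * δ⁻¹ ∈ L := by
      rw [show l * δ * l⁻¹ * δ⁻¹ = l * (δ * l⁻¹ * δ⁻¹) by group]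
      exact L.mul_mem hl ((mem_normalizer_iff.mp hδN _).mp (L.inv_mem hl))
    have hmem : l * δ * l⁻¹ * δ⁻¹ ∈ (P' : Subgroup ↥X).map X.subtype :=
      ⟨g * ⟨δ, hδX⟩ * g⁻¹ * ⟨δ, hδX⟩⁻¹, mul_mem hg (inv_mem huP), by
        show (g : G) * δ * (g : G)⁻¹ * δ⁻¹ = _
        rw [e1]⟩
    have hyS : l * δ * l⁻¹ ∈ (S : Subgroup G) := by
      have := (S : Subgroup G).mul_mem (hPL ⟨hmem, hl0⟩).1 (hD.1 hδ)
      simpa [mul_assoc] using this
    have hyD := hD.2 δ hδ l hyS
    have h1 : l * δ * l⁻¹ * δ⁻¹ ∈ invol T ⊓ L := ⟨(invol T).mul_mem hyD ((invol T).inv_mem hδ), hl0⟩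
    rw [hbot, mem_bot, mul_inv_eq_one] at h1
    rw [e1]; exact h1
  have hOL : ((pPrimeCore 2 ↥X).map X.subtype).subgroupOf L = ⊥ := by
    haveI : (((pPrimeCore 2 ↥X).map X.subtype).subgroupOf L).Normal := ⟨fun x hx l => by
      obtain ⟨y, hy, e⟩ := hx
      refine ⟨⟨(l : G), hLX l.2⟩ * y * ⟨(l : G), hLX l.2⟩⁻¹, (inferInstance : (pPrimeCore 2 ↥X).Normal).conj_mem y hy _, ?_⟩
      show (l : G) * (y : G) * (l : G)⁻¹ = _
      rw [show (y : G) = (x : G) from e]
      rfl⟩
    refine ((inferInstance : (((pPrimeCore 2 ↥X).map X.subtype).subgroupOf L).Normal).eq_bot_or_eq_top).resolve_right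
      fun h => hna ?_
    have hle : L ≤ (pPrimeCore 2 ↥X).map X.subtype := subgroupOf_eq_top.mp h
    have h2 : Odd (Nat.card ↥L) := Odd.of_dvd_nat (Nat.coprime_two_right.mp (card_pPrimeCore_coprime (G := ↥X) 2))
      ((card_dvd_of_le hle).trans (by rw [card_map_of_injective X.subtype_injective]))
    haveI : Group.IsSolvable ↥L := Cfsg.Agent.S0205.result h2
    exact ⟨⟨IsSimpleGroup.comm_iff_isSolvable.mpr inferInstance⟩⟩
  intro l hl
  have hcm := CfsgLib.ZStar.commutator_mem hu hiso (⟨l, hLX hl⟩ : ↥X)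
  have hmemL : δ * l * δ⁻¹ * l⁻¹ ∈ L := L.mul_mem ((mem_normalizer_iff.mp hδN l).mp hl) (L.inv_mem hl)
  have h1 : (⟨_, hmemL⟩ : ↥L) ∈ ((pPrimeCore 2 ↥X).map X.subtype).subgroupOf L := ⟨_, hcm, rfl⟩
  rw [hOL, mem_bot] at h1
  have h2 : δ * l * δ⁻¹ * l⁻¹ = 1 := congrArg Subtype.val h1
  rw [mul_inv_eq_one, mul_inv_eq_iff_eq_mul] at h2
  exact h2.symm

/-- With no normal 2-subgroup, the involutions of `T` in the residual are trivial. -/
theorem invol_eq_bot (hG : Gold.{u}) (hO : pPrimeCore 2 G = ⊥) (hO2 : pCore 2 G = ⊥)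
    (hT : IsStronglyClosed T (S : Subgroup G))
    (hR : IsStronglyClosed (res T ⊓ (S : Subgroup G)) (S : Subgroup G)) : invol T = ⊥ := by
  haveI : Fact (Nat.Prime 2) := ⟨Nat.prime_two⟩
  have hnd := CfsgLib.not_dvd_card_fitting_of_pCore_eq_bot (p := 2) hO2
  have hF : fittingSubgroup G = ⊥ := by
    rw [← le_bot_iff, ← hO]
    exact CfsgLib.le_pPrimeCore (Nat.coprime_two_right.mpr (Nat.odd_iff.mpr (Nat.two_dvd_ne_zero.mp hnd)))
  have hD := invol_closed hT hR
  refine (eq_bot_iff_forall _).mpr fun d hd => ?_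
  have hdC : d ∈ centralizer (layer G : Set G) := by
    rw [layer, mem_centralizer_iff]
    intro y hy
    have hle : sSup {K : Subgroup G | IsComponent K} ≤ centralizer ({d} : Set G) := sSup_le fun L hL x hx => by
      obtain ⟨-, hna⟩ := component_simple hF hL
      obtain ⟨P, hP⟩ := CfsgLib.CentralInt.exists_sylow_inf S hL
      suffices hdN : d ∈ normalizer (L : Set G) from
        mem_centralizer_singleton_iff.mpr ((invol_centralizes hG hF hT hR hL hd hdN) x hx)
      rcases CfsgLib.components_eq_or_commute hL (component_conj hL d) with e | hcm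
      · exact mem_normalizer_of_maps fun z hz => e.symm ▸ ⟨z, hz, rfl⟩
      exfalso
      -- `δ = [x, d]` normalises and so centralises `L`
      obtain ⟨w, hwS, hwc⟩ := CfsgLib.CentralInt.not_central S hL
      set c := d * (w : G)⁻¹ * d⁻¹ with hc
      have hcL : c ∈ L.map (MulAut.conj d).toMonoidHom := ⟨(w : G)⁻¹, L.inv_mem w.2, rfl⟩
      have hcC : c ∈ centralizer (L : Set G) := fun y hy => CfsgLib.Comp.comm_of_commutator_eq_bot hcm hy hcL
      have hwd : (w : G) * d * (w : G)⁻¹ ∈ invol T :=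
        hD.2 d hd w ((S : Subgroup G).mul_mem ((S : Subgroup G).mul_mem hwS (hD.1 hd)) ((S : Subgroup G).inv_mem hwS))
      have hδ : (w : G) * c ∈ invol T := by
        rw [hc, show (w : G) * (d * (w : G)⁻¹ * d⁻¹) = (w : G) * d * (w : G)⁻¹ * d⁻¹ by group]
        exact mul_mem hwd (inv_mem hd)
      have h1 := invol_centralizes hG hF hT hR hL hδ
        (mul_mem (le_normalizer w.2) (centralizer_le_normalizer' _ hcC))
      have h2 : (w : G) ∈ centralizer (L : Set G) := by
        have := mul_mem h1 (inv_mem hcC)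
        simpa [mul_assoc] using this
      exact hwc (mem_center_iff.mpr fun y => Subtype.ext (h2 y y.2))
    exact mem_centralizer_singleton_iff.mp (hle hy)
  have hgf : generalizedFittingSubgroup G = layer G := by
    rw [generalizedFittingSubgroup, hF, sup_bot_eq]
  have hCE : centralizer (layer G : Set G) ≤ layer G := hgf ▸ CfsgLib.centralizer_generalizedFitting_le
  haveI : (centralizer (layer G : Set G)).Normal := by
    haveI : (layer G).Normal := by rw [← hgf]; infer_instance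
    infer_instance
  have hnil : centralizer (layer G : Set G) ≤ fittingSubgroup G := CfsgLib.le_fittingSubgroup
    (CfsgLib.Comp.nilpotent_of_comm fun a ha b hb => hb a (hCE ha))
  exact mem_bot.mp (hF ▸ hnil hdC)

/-- Non-central involutions of `T` in the residual give the result. -/
theorem res_normal_of_invol (hG : Gold.{u})
    (ih : ∀ (X : Type u) [Group X] [Finite X], Nat.card X < Nat.card G → Stmt X) (hO : pPrimeCore 2 G = ⊥)
    (hZ : ∀ z ∈ T, orderOf z = 2 → z ∉ center G) (hT : IsStronglyClosed T (S : Subgroup G))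
    (hR : IsStronglyClosed (res T ⊓ (S : Subgroup G)) (S : Subgroup G)) (hne : invol T ≠ ⊥) : (res T).Normal := by
  classical
  haveI : Fact (Nat.Prime 2) := ⟨Nat.prime_two⟩
  have hD := invol_closed hT hR
  set M := pCore 2 G with hM
  by_cases hM1 : M = ⊥
  · exact absurd (invol_eq_bot hG hO hM1 hT hR) hne
  have hMS : M ≤ (S : Subgroup G) := CfsgLib.pCore_le_sylow S
  by_cases hMD : M ⊓ invol T = ⊥
  swap
  · haveI : (M ⊓ invol T).Normal := ⟨fun x hx g =>
      ⟨(inferInstance : M.Normal).conj_mem x hx.1 g,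
        hD.2 x hx.2 g (hMS ((inferInstance : M.Normal).conj_mem x hx.1 g))⟩⟩
    refine res_normal_of_normal ih hO hT (A := M ⊓ invol T) (fun x hx => hx.2.1.2)
      (fun a ha t ht => invol_comm ha.2 ht) fun hle => ?_
    obtain ⟨x, hx, hx1⟩ := (bot_or_exists_ne_one _).resolve_left hMD
    exact hZ x hx.2.1.2 (orderOf_eq_prime (by rw [pow_two]; exact hx.2.2) hx1) (hle hx)
  exfalso
  have hMc : invol T ≤ centralizer (M : Set G) := fun d hd m hm => by
    have h1 : m * d * m⁻¹ * d⁻¹ ∈ M ⊓ invol T := ⟨by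
      rw [show m * d * m⁻¹ * d⁻¹ = m * (d * m⁻¹ * d⁻¹) by group]
      exact M.mul_mem hm ((inferInstance : M.Normal).conj_mem _ (M.inv_mem hm) d), (invol T).mul_mem (hD.2 d hd m
        ((S : Subgroup G).mul_mem ((S : Subgroup G).mul_mem (hMS hm) (hD.1 hd)) ((S : Subgroup G).inv_mem (hMS hm))))
        ((invol T).inv_mem hd)⟩
    rw [hMD, mem_bot, mul_inv_eq_one, mul_inv_eq_iff_eq_mul] at h1
    exact h1
  set π := QuotientGroup.mk' M with hπ
  have hsurj : Function.Surjective π := QuotientGroup.mk'_surjective M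
  have hlt : Nat.card (G ⧸ M) < Nat.card G := by
    rw [card_eq_card_quotient_mul_card_subgroup M]
    exact lt_mul_of_one_lt_right Nat.card_pos ((one_lt_card_iff_ne_bot M).mpr hM1)
  let S' : Sylow 2 (G ⧸ M) := S.mapSurjective hsurj
  have hT' := Cfsg.Agent.S1250.result S T hT M
  have hD' := Cfsg.Agent.S1250.result S (invol T) hD M
  have hN := ih (G ⧸ M) hlt S' (T.map π) hT'
  set O' := pPrimeCore 2 (G ⧸ M)
  set L := O' ⊔ res (T.map π) with hL
  have hres : (res T).map π ≤ res (T.map π) := CfsgLib.CentralInt.le_perfCore (by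
      rintro _ ⟨h, hh, rfl⟩ _ ⟨t, ht, rfl⟩
      rw [← map_mul, ← map_mul, res_commute hh ht]) (by rw [← map_commutator, res_perfect])
  have hDL : (invol T).map π ≤ L := (map_mono (K := invol T) (K' := res T) fun x hx => hx.1.1).trans (hres.trans le_sup_right)
  have hconj : ∀ (g : G ⧸ M), ∀ d ∈ (invol T).map π, g * d * g⁻¹ ∈ O' ⊔ (invol T).map π := by
    intro g d hd
    obtain ⟨l, hl, m, hm, rfl⟩ := frattini_split (F := ⊤) (K := L) (U := (S' : Subgroup (G ⧸ M))) le_top
      (haveI := hN; (normalizer_eq_top L).ge) S'.2 (by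
        rw [relIndex_top_right]
        exact Nat.odd_iff.mpr (Nat.two_dvd_ne_zero.mp S'.not_dvd_index)) (mem_top g)
    have hd' : m * d * m⁻¹ ∈ (invol T).map π :=
      hD'.2 d hd m ((mem_normalizer_iff.mp hm.2 d).mp ⟨hD'.1 hd, hDL hd⟩).1
    rw [show l * m * d * (l * m)⁻¹ = l * (m * d * m⁻¹) * l⁻¹ by group]
    generalize m * d * m⁻¹ = d' at hd' ⊢
    obtain ⟨o, ho, h, hh, rfl⟩ := mem_sup_of_normal_left.mp hl
    have hc : d' * h = h * d' := res_commute hh (map_mono (K := invol T) (K' := T) (fun x hx => hx.1.2) hd')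
    rw [show o * h * d' * (o * h)⁻¹ = o * (h * d' * h⁻¹) * o⁻¹ by group, ← hc, mul_inv_cancel_right,
      show o * d' * o⁻¹ = o * (d' * o⁻¹ * d'⁻¹) * d' by group]
    exact mul_mem (mem_sup_left (O'.mul_mem ho ((inferInstance : O'.Normal).conj_mem _ (O'.inv_mem ho) d')))
      (mem_sup_right hd')
  set K := normalClosure (invol T : Set G) with hK
  have hKc : K ≤ centralizer (M : Set G) := normalClosure_le_normal hMc
  have hKL : K ≤ (O' ⊔ (invol T).map π).comap π := by
    rw [hK, normalClosure, closure_le]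
    intro x hx
    obtain ⟨d, hd, hdx⟩ := Group.mem_conjugatesOfSet_iff.mp hx
    obtain ⟨g, rfl⟩ := isConj_iff.mp hdx
    show π (g * d * g⁻¹) ∈ O' ⊔ (invol T).map π
    rw [map_mul, map_mul, map_inv]
    exact hconj _ _ ⟨d, hd, rfl⟩
  set X := K ⊓ O'.comap π with hX
  haveI : X.Normal := by rw [hX]; infer_instance
  have hXM : X ≤ M := by
    refine (le_of_central_odd hO (inf_le_right : M ⊓ X ≤ X) ((CfsgLib.isPGroup_pCore 2).to_le inf_le_left)
      (fun z hz k hk => (hKc hk.1) z hz.1) ?_).trans inf_le_left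
    rw [inf_relIndex_right, show M = (⊥ : Subgroup (G ⧸ M)).comap π by
      rw [MonoidHom.comap_bot, hπ, QuotientGroup.ker_mk'], relIndex_comap, relIndex_bot_left]
    refine Odd.of_dvd_nat (Nat.coprime_two_right.mp (card_pPrimeCore_coprime (G := G ⧸ M) 2))
      (card_dvd_of_le ?_)
    rintro _ ⟨x, hx, rfl⟩
    exact hx.2
  have hK2 : IsPGroup 2 K := by
    intro k
    have hk' := hKL k.2
    obtain ⟨o, ho, d, ⟨d₀, hd₀, rfl⟩, e⟩ := mem_sup_of_normal_left.mp (show π (k : G) ∈ O' ⊔ (invol T).map π from hk')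
    have hsq : (k : G) * k ∈ X := by
      refine ⟨K.mul_mem k.2 k.2, ?_⟩
      show π ((k : G) * k) ∈ O'
      rw [map_mul, ← e, show o * π d₀ * (o * π d₀) = o * (π d₀ * o * (π d₀)⁻¹) * (π d₀ * π d₀) by group,
        ← map_mul π d₀ d₀, hd₀.2, map_one, mul_one]
      exact O'.mul_mem ho ((inferInstance : O'.Normal).conj_mem _ ho _)
    obtain ⟨j, hj⟩ := CfsgLib.isPGroup_pCore 2 ⟨_, hXM hsq⟩
    refine ⟨j + 1, Subtype.ext ?_⟩
    have h1 : ((k : G) * k) ^ 2 ^ j = 1 := congrArg Subtype.val hj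
    show (k : G) ^ 2 ^ (j + 1) = 1
    rw [pow_succ', pow_mul, pow_two]
    exact h1
  have hKM : K ≤ M := CfsgLib.le_pCore hK2
  refine hne ((eq_bot_iff_forall _).mpr fun d hd => ?_)
  have h1 : d ∈ M ⊓ invol T := ⟨hKM (subset_normalClosure hd), hd⟩
  rw [hMD, mem_bot] at h1
  exact h1

end CfsgLib.ClosedCentral
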