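import Cfsg.Agent.Lib.ClosedCentral.Residual
import Cfsg.Agent.Lib.PairSol.RankThree
import Cfsg.Agent.Lib.ZCReduction.Basic
import Cfsg.Prelude.Def_TwoFusion

/-!
The Sylow 2-subgroup `R = S ⊓ C(T)^∞` of the residual of `C(T)` is strongly closed in `S`, as soon as some
involution `z ∈ T ⊓ Z(S)` has `O(C(z)) C(T)^∞` normal in its centraliser.

Descending induction on the subgroup on which an element of `G` is used: at a fully normalised `Q` with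
`C_S(Q) ≤ Q`, the group `N(Q)` is, modulo bigger subgroups, the stabiliser of `Q / (T ⊓ Q)`, and then `R` lies in both
`X = O(C(z)) C(T)^∞ ⊓ C(T ⊓ Q)` and its image, two normal subgroups of `C(T ⊓ Q)`.
-/

set_option autoImplicit false
set_option linter.unusedSectionVars false
set_option linter.style.haveILetI false

namespace CfsgLib.ClosedCentral

open Cfsg Subgroup CfsgLib.Comp
open scoped commutatorElement

universe u

variable {G : Type u} [Group G] [Finite G]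

theorem card_lt_of_lt {H K : Subgroup G} (h : H < K) : Nat.card H < Nat.card K :=
  lt_of_le_of_ne (card_le_of_le h.le) fun e => h.ne (eq_of_le_of_card_ge h.le e.ge)

/-- A subgroup normalised by `F` meets a subgroup of odd index in `F` in a subgroup of odd index. -/
theorem odd_inf {F K U : Subgroup G} (hKF : K ≤ F) (hK : F ≤ normalizer (K : Set G)) (hU : IsPGroup 2 U)
    (hodd : Odd (U.relIndex F)) : Odd ((U ⊓ K).relIndex K) := by
  haveI : Fact (Nat.Prime 2) := ⟨Nat.prime_two⟩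
  haveI : (K.subgroupOf F).Normal := normal_subgroupOf_of_le_normalizer hK
  let P : Sylow 2 F :=
    (hU.comap_of_injective F.subtype F.subtype_injective).toSylow (Nat.two_dvd_ne_zero.mpr (Nat.odd_iff.mp hodd))
  have h := CfsgLib.ZCReduction.sylow_inf P (K.subgroupOf F)
  rw [show (P : Subgroup F) = U.subgroupOf F from rfl,
    show U.subgroupOf F ⊓ K.subgroupOf F = (U ⊓ K).subgroupOf F from rfl, Subgroup.relIndex_subgroupOf hKF] at h
  exact Nat.odd_iff.mpr (Nat.two_dvd_ne_zero.mp h)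

/-- The index of a subgroup in its product with a normalised one. -/
theorem relIndex_sup_of_le_normalizer {H K : Subgroup G} (hH : H ≤ normalizer (K : Set G)) :
    H.relIndex (H ⊔ K) = H.relIndex K := by
  set M := H ⊔ K
  haveI : (K.subgroupOf M).Normal := normal_subgroupOf_of_le_normalizer (sup_le hH le_normalizer)
  have hsup : H.subgroupOf M ⊔ K.subgroupOf M = ⊤ := by
    rw [← subgroupOf_sup le_sup_left le_sup_right]
    exact subgroupOf_self M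
  have hb : K.relIndex M = K.relIndex H := by
    have h1 := Subgroup.relIndex_sup_right (H.subgroupOf M) (K.subgroupOf M)
    rw [hsup, relIndex_top_right, relIndex_subgroupOf le_sup_left] at h1
    exact h1
  have e1 : H.relIndex M * Nat.card H = Nat.card M := by
    rw [← Nat.card_congr (subgroupOfEquivOfLe (le_sup_left : H ≤ M)).toEquiv, mul_comm]
    exact card_mul_index (H.subgroupOf M)
  have e2 : K.relIndex M * Nat.card K = Nat.card M := by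
    rw [← Nat.card_congr (subgroupOfEquivOfLe (le_sup_right : K ≤ M)).toEquiv, mul_comm]
    exact card_mul_index (K.subgroupOf M)
  have e3 : (K ⊓ H).relIndex H * Nat.card (K ⊓ H : Subgroup G) = Nat.card H := by
    rw [← Nat.card_congr (subgroupOfEquivOfLe (inf_le_right : K ⊓ H ≤ H)).toEquiv, mul_comm]
    exact card_mul_index ((K ⊓ H).subgroupOf H)
  have e4 : (H ⊓ K).relIndex K * Nat.card (H ⊓ K : Subgroup G) = Nat.card K := by
    rw [← Nat.card_congr (subgroupOfEquivOfLe (inf_le_right : H ⊓ K ≤ K)).toEquiv, mul_comm]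
    exact card_mul_index ((H ⊓ K).subgroupOf K)
  rw [inf_relIndex_right] at e3 e4
  rw [inf_comm K H] at e3
  rw [hb] at e2
  refine Nat.eq_of_mul_eq_mul_right (Nat.card_pos (α := H)) ?_
  rw [e1, ← e2, ← e4, ← e3]
  ring

/-- The centraliser of a normalised subgroup is normalised. -/
theorem conj_mem_centralizer {V : Subgroup G} {n x : G} (hn : n ∈ normalizer (V : Set G))
    (hx : x ∈ centralizer (V : Set G)) : n * x * n⁻¹ ∈ centralizer (V : Set G) := fun v hv => by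
  have h1 := hx _ (show n⁻¹ * v * n ∈ V by simpa using (mem_normalizer_iff.mp (inv_mem hn) v).mp hv)
  calc v * (n * x * n⁻¹) = n * (n⁻¹ * v * n * x) * n⁻¹ := by group
    _ = n * (x * (n⁻¹ * v * n)) * n⁻¹ := by rw [h1]
    _ = n * x * n⁻¹ * v := by group

theorem normalizer_le_normalizer_centralizer (V : Subgroup G) :
    normalizer (V : Set G) ≤ normalizer (centralizer (V : Set G) : Set G) :=
  fun _ hn => mem_normalizer_of_maps fun _ hy => conj_mem_centralizer hn hy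

/-- Frattini: for a subgroup `U` with odd index in `F` and a subgroup `K` of `F` normalised by `F`, `F = K N_F(U ⊓ K)`. -/
theorem frattini_split {F K U : Subgroup G} (hKF : K ≤ F) (hK : F ≤ normalizer (K : Set G)) (hU : IsPGroup 2 U)
    (hodd : Odd (U.relIndex F)) {c : G} (hc : c ∈ F) :
    ∃ k ∈ K, ∃ m ∈ F ⊓ normalizer ((U ⊓ K : Subgroup G) : Set G), c = k * m := by
  haveI : Fact (Nat.Prime 2) := ⟨Nat.prime_two⟩
  haveI hKn : (K.subgroupOf F).Normal := normal_subgroupOf_of_le_normalizer hK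
  have hidx : ¬ 2 ∣ (U ⊓ K).relIndex K := Nat.two_dvd_ne_zero.mpr (Nat.odd_iff.mp (odd_inf hKF hK hU hodd))
  let P : Sylow 2 (K.subgroupOf F) :=
    ((hU.to_le inf_le_left).comap_of_injective (F.subtype.comp (K.subgroupOf F).subtype)
      (F.subtype_injective.comp (K.subgroupOf F).subtype_injective)).toSylow (by
        show ¬ 2 ∣ ((U ⊓ K).subgroupOf F).relIndex (K.subgroupOf F)
        rwa [Subgroup.relIndex_subgroupOf hKF])
  have htop := P.normalizer_sup_eq_top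
  obtain ⟨m, hm, k, hk, e⟩ := mem_sup_of_normal_right.mp (htop.ge (mem_top (⟨c, hc⟩ : F)))
  have hk' : (m : G) * k * (m : G)⁻¹ ∈ K := (hKn.conj_mem k hk m)
  refine ⟨(m : G) * k * (m : G)⁻¹, hk', m, ⟨m.2, ?_⟩, ?_⟩
  · refine mem_normalizer_iff.mpr fun x => ?_
    have hmem : ∀ y : G, y ∈ U ⊓ K → ∀ hy : y ∈ F,
        (⟨y, hy⟩ : F) ∈ (P : Subgroup (K.subgroupOf F)).map (K.subgroupOf F).subtype :=
      fun y hy hyF => ⟨⟨⟨y, hyF⟩, hy.2⟩, hy, rfl⟩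
    constructor
    · intro hx
      obtain ⟨y, hy, e'⟩ := (mem_normalizer_iff.mp hm ⟨x, hKF hx.2⟩).mp (hmem x hx _)
      have := congrArg Subtype.val e'
      exact (show (y.1 : G) = (m : G) * x * (m : G)⁻¹ from this) ▸ hy
    · intro hx
      have hxF : x ∈ F := by
        have h := F.mul_mem (F.mul_mem (F.inv_mem m.2) (hKF hx.2)) m.2
        simpa [mul_assoc] using h
      obtain ⟨y, hy, e'⟩ := (mem_normalizer_iff.mp hm ⟨x, hxF⟩).mpr (hmem _ hx _)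
      exact (show (y.1 : G) = x from congrArg Subtype.val e') ▸ hy
  · have e' : (m : G) * k = c := congrArg Subtype.val e
    rw [← e']; group

/-- The subgroup has a conjugate with a Sylow subgroup of its normaliser inside `S`, reached by an element mapping
`N_S(Q)` into `S`. -/
theorem exists_fully (S : Sylow 2 G) {Q : Subgroup G} (hQ : Q ≤ (S : Subgroup G)) :
    ∃ (a : G) (U : Subgroup G), (S : Subgroup G) ⊓ normalizer (Q : Set G) ≤ U ∧ U ≤ normalizer (Q : Set G) ∧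
      IsPGroup 2 U ∧ Odd (U.relIndex (normalizer (Q : Set G))) ∧ ∀ u ∈ U, a * u * a⁻¹ ∈ (S : Subgroup G) := by
  haveI : Fact (Nat.Prime 2) := ⟨Nat.prime_two⟩
  set N := normalizer (Q : Set G)
  have h2 : IsPGroup 2 (((S : Subgroup G) ⊓ N).subgroupOf N) :=
    (S.2.to_le inf_le_left).of_equiv (subgroupOfEquivOfLe inf_le_right).symm
  obtain ⟨P, hP⟩ := h2.exists_le_sylow
  obtain ⟨T, hT⟩ := (P.2.map N.subtype).exists_le_sylow
  obtain ⟨a, ha⟩ := MulAction.exists_smul_eq G T S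
  refine ⟨a, (P : Subgroup N).map N.subtype, fun x hx => ⟨⟨x, hx.2⟩, hP hx, rfl⟩, map_subtype_le _,
    P.2.map _, ?_, fun u hu => ?_⟩
  · rw [show ((P : Subgroup N).map N.subtype).relIndex N = (P : Subgroup N).index by
      rw [relIndex, subgroupOf, comap_map_eq_self_of_injective N.subtype_injective]]
    exact Nat.odd_iff.mpr (Nat.two_dvd_ne_zero.mp P.not_dvd_index)
  · rw [← ha, Sylow.coe_subgroup_smul]
    exact ⟨u, hT hu, rfl⟩

/-- An involution `z ∈ T ⊓ Z(S)` with `O(C(z)) C(T)^∞` normal in `C(z)`. -/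
structure Setting (S : Sylow 2 G) (T : Subgroup G) (z : G) : Prop where
  closed : IsStronglyClosed T (S : Subgroup G)
  mem : z ∈ T
  central : ∀ s ∈ (S : Subgroup G), s * z = z * s
  core : centralizer ({z} : Set G) ≤
    normalizer ((centralizerPPrimeCore 2 z ⊔ res T : Subgroup G) : Set G)

variable {S : Sylow 2 G} {T : Subgroup G} {z : G}

theorem conj_closed (hT : IsStronglyClosed T (S : Subgroup G)) {g : G}
    (hg : ∀ s, s ∈ (S : Subgroup G) ↔ g * s * g⁻¹ ∈ (S : Subgroup G)) : ∀ t, t ∈ T ↔ g * t * g⁻¹ ∈ T := fun t =>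
  ⟨fun ht => hT.2 t ht g ((hg t).mp (hT.1 ht)), fun ht => by
    have hts : t ∈ (S : Subgroup G) := (hg t).mpr (hT.1 ht)
    have h := hT.2 _ ht g⁻¹ (by simpa [mul_assoc] using hts)
    simpa [mul_assoc] using h⟩

theorem mem_conj_iff (H : Subgroup G) {g : G} (hg : g ∈ H) (x : G) : x ∈ H ↔ g * x * g⁻¹ ∈ H :=
  mem_normalizer_iff.mp (le_normalizer hg) x

theorem sylow_conj_res (hT : IsStronglyClosed T (S : Subgroup G)) {s h : G} (hs : s ∈ (S : Subgroup G))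
    (hh : h ∈ res T) : s * h * s⁻¹ ∈ res T :=
  res_conj (conj_closed hT (mem_conj_iff _ hs)) hh

/-- `S ⊓ C(T)^∞` is a Sylow subgroup of the residual. -/
theorem odd_relIndex_res (hT : IsStronglyClosed T (S : Subgroup G)) :
    Odd ((res T ⊓ (S : Subgroup G)).relIndex (res T)) := by
  haveI : Fact (Nat.Prime 2) := ⟨Nat.prime_two⟩
  set M := res T ⊔ (S : Subgroup G)
  have hle : (S : Subgroup G) ≤ normalizer (res T : Set G) := fun s hs =>
    mem_normalizer_iff.mpr fun x => ⟨sylow_conj_res hT hs, fun hx => by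
      have h := sylow_conj_res hT (inv_mem hs) hx
      simpa [mul_assoc] using h⟩
  haveI : ((res T).subgroupOf M).Normal := normal_subgroupOf_of_le_normalizer (sup_le le_normalizer hle)
  have h := CfsgLib.ZCReduction.sylow_inf (S.subtype (le_sup_right : (S : Subgroup G) ≤ M)) ((res T).subgroupOf M)
  rw [Sylow.coe_subtype, show (S : Subgroup G).subgroupOf M ⊓ (res T).subgroupOf M =
      ((S : Subgroup G) ⊓ res T).subgroupOf M from rfl,
    Subgroup.relIndex_subgroupOf (le_sup_left : res T ≤ M), inf_comm] at h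
  exact Nat.odd_iff.mpr (Nat.two_dvd_ne_zero.mp h)

/-- The stabiliser of `Q / V`. -/
def stab (Q V : Subgroup G) (hV : normalizer (Q : Set G) ≤ normalizer (V : Set G)) : Subgroup G where
  carrier := {x | x ∈ normalizer (Q : Set G) ∧ ∀ q ∈ Q, x * q * x⁻¹ * q⁻¹ ∈ V}
  one_mem' := ⟨one_mem _, fun q _ => by simp⟩
  mul_mem' {x y} hx hy := ⟨mul_mem hx.1 hy.1, fun q hq => by
    have h1 := hx.2 _ ((mem_normalizer_iff.mp hy.1 q).mp hq)
    have h2 := hy.2 q hq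
    rw [show x * y * q * (x * y)⁻¹ * q⁻¹ = x * (y * q * y⁻¹) * x⁻¹ * (y * q * y⁻¹)⁻¹ * (y * q * y⁻¹ * q⁻¹) by group]
    exact mul_mem h1 h2⟩
  inv_mem' {x} hx := ⟨inv_mem hx.1, fun q hq => by
    have hq' : x⁻¹ * q * x ∈ Q := by simpa using (mem_normalizer_iff.mp (inv_mem hx.1) q).mp hq
    have h1 := inv_mem (hx.2 _ hq')
    rw [show x⁻¹ * q * x⁻¹⁻¹ * q⁻¹ = (x * (x⁻¹ * q * x) * x⁻¹ * (x⁻¹ * q * x)⁻¹)⁻¹ by group]
    exact h1⟩

theorem stab_conj {Q V : Subgroup G} (hV : normalizer (Q : Set G) ≤ normalizer (V : Set G)) {n x : G}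
    (hn : n ∈ normalizer (Q : Set G)) (hx : x ∈ stab Q V hV) : n * x * n⁻¹ ∈ stab Q V hV := by
  refine ⟨mul_mem (mul_mem hn hx.1) (inv_mem hn), fun q hq => ?_⟩
  have h := hx.2 (n⁻¹ * q * n) (by simpa using (mem_normalizer_iff.mp (inv_mem hn) q).mp hq)
  have := (mem_normalizer_iff.mp (hV hn) _).mp h
  rw [show n * x * n⁻¹ * q * (n * x * n⁻¹)⁻¹ * q⁻¹ = n * (x * (n⁻¹ * q * n) * x⁻¹ * (n⁻¹ * q * n)⁻¹) * n⁻¹ by group]
  exact this

theorem stab_normal {Q V : Subgroup G} (hV : normalizer (Q : Set G) ≤ normalizer (V : Set G)) :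
    normalizer (Q : Set G) ≤ normalizer (stab Q V hV : Set G) := fun n hn => by
  refine mem_normalizer_iff.mpr fun x => ⟨stab_conj hV hn, fun hx => ?_⟩
  have h := stab_conj hV (inv_mem hn) hx
  simpa [mul_assoc] using h

theorem stab_iterate {Q V : Subgroup G} {a q v : G} (hav : a * v * a⁻¹ = v) (h : a * q * a⁻¹ = v * q) :
    ∀ n : ℕ, a ^ n * q * (a ^ n)⁻¹ = v ^ n * q := by
  intro n
  induction n with
  | zero => simp
  | succ n ih =>
    calc a ^ (n + 1) * q * (a ^ (n + 1))⁻¹ = a * (a ^ n * q * (a ^ n)⁻¹) * a⁻¹ := by rw [pow_succ']; group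
      _ = a * (v ^ n * q) * a⁻¹ := by rw [ih]
      _ = (a * v * a⁻¹) ^ n * (a * q * a⁻¹) := by rw [conj_pow]; group
      _ = v ^ (n + 1) * q := by rw [hav, h, pow_succ]; group

/-- The elements centralising `V` and `Q / V` act on `Q` as a 2-group. -/
theorem stab_pow {Q V : Subgroup G} (hV : normalizer (Q : Set G) ≤ normalizer (V : Set G)) (hV2 : IsPGroup 2 V)
    {a : G} (ha : a ∈ stab Q V hV) (hac : a ∈ centralizer (V : Set G)) :
    ∃ j : ℕ, a ^ 2 ^ j ∈ centralizer (Q : Set G) := by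
  haveI : Fact (Nat.Prime 2) := ⟨Nat.prime_two⟩
  obtain ⟨j, hj⟩ := IsPGroup.iff_card.mp hV2
  refine ⟨j, fun q hq => ?_⟩
  set v := a * q * a⁻¹ * q⁻¹ with hv
  have hvV : v ∈ V := ha.2 q hq
  have hav : a * v * a⁻¹ = v := by rw [← hac v hvV, mul_inv_cancel_right]
  have e := stab_iterate (Q := Q) (V := V) hav (show a * q * a⁻¹ = v * q by rw [hv]; group) (2 ^ j)
  rw [← hj, show v ^ Nat.card V = 1 from congrArg Subtype.val (pow_card_eq_one' (x := (⟨v, hvV⟩ : V))),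
    one_mul, mul_inv_eq_iff_eq_mul] at e
  rw [← hj]
  exact e.symm

namespace Setting

variable (h : Setting S T z)
include h

/-- The common step: `k` in the stabiliser of `Q / (T ⊓ Q)`, `R ≤ Q`, and `z ∈ Q`. -/
theorem stab_fix {Q : Subgroup G} (hQ : Q ≤ (S : Subgroup G)) (hz : z ∈ Q) (hRQ : res T ⊓ (S : Subgroup G) ≤ Q)
    (hV : normalizer (Q : Set G) ≤ normalizer ((T ⊓ Q : Subgroup G) : Set G)) {k : G} (hk : k ∈ stab Q (T ⊓ Q) hV)
    {r : G} (hr : r ∈ res T ⊓ (S : Subgroup G)) : k * r * k⁻¹ ∈ res T ⊓ (S : Subgroup G) := by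
  haveI : Fact (Nat.Prime 2) := ⟨Nat.prime_two⟩
  set V := T ⊓ Q with hVdef
  set Y := centralizer (V : Set G) with hY
  set X := (centralizerPPrimeCore 2 z ⊔ res T) ⊓ Y with hX
  set R := res T ⊓ (S : Subgroup G) with hR
  have hYz : Y ≤ centralizer ({z} : Set G) := fun y hy =>
    mem_centralizer_singleton_iff.mpr (hy z ⟨h.mem, hz⟩).symm
  have hHY : res T ≤ Y := fun x hx v hv => res_le T hx v hv.1
  have hYX : ∀ y ∈ Y, ∀ x ∈ X, y * x * y⁻¹ ∈ X := fun y hy x hx =>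
    ⟨(mem_normalizer_iff.mp (h.core (hYz hy)) x).mp hx.1, Y.mul_mem (Y.mul_mem hy hx.2) (Y.inv_mem hy)⟩
  have hkV : k ∈ normalizer (V : Set G) := hV hk.1
  have hkY : ∀ y, y ∈ Y ↔ k * y * k⁻¹ ∈ Y := by
    have key : ∀ g ∈ normalizer (V : Set G), ∀ y ∈ Y, g * y * g⁻¹ ∈ Y := fun g hg y hy =>
      conj_mem_centralizer hg hy
    exact fun y => ⟨key k hkV y, fun hy => by simpa [mul_assoc] using key k⁻¹ (inv_mem hkV) _ hy⟩
  set X' := X.map (MulAut.conj k).toMonoidHom with hX'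
  have hYX' : ∀ y ∈ Y, ∀ x ∈ X', y * x * y⁻¹ ∈ X' := by
    rintro y hy _ ⟨x, hx, rfl⟩
    refine ⟨k⁻¹ * y * k * x * (k⁻¹ * y * k)⁻¹, hYX _ ?_ x hx, ?_⟩
    · rw [hkY]
      simpa [mul_assoc] using hy
    · show k * (k⁻¹ * y * k * x * (k⁻¹ * y * k)⁻¹) * k⁻¹ = y * (k * x * k⁻¹) * y⁻¹
      group
  have hRX : R ≤ X := fun x hx => ⟨mem_sup_right hx.1, hHY hx.1⟩
  -- `R ≤ X'`: modulo `X'` it is central in the residual
  have hcomm : ∀ x ∈ res T, ∀ ρ ∈ R, x * ρ * x⁻¹ * ρ⁻¹ ∈ X' := by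
    intro x hx ρ hρ
    set δ := k * ρ * k⁻¹ * ρ⁻¹ with hδdef
    have hδ : δ ∈ V := hk.2 ρ (hRQ hρ)
    have hρ' : k * ρ * k⁻¹ ∈ X' := ⟨ρ, hRX hρ, rfl⟩
    have h1 : x * δ * x⁻¹ = δ := by
      rw [show δ ∈ V → x * δ = δ * x from fun _ => (hHY hx δ hδ).symm, mul_inv_cancel_right]
      exact hδ
    have h2 : x * (k * ρ * k⁻¹) * x⁻¹ * (k * ρ * k⁻¹)⁻¹ ∈ X' := mul_mem (hYX' x (hHY hx) _ hρ') (inv_mem hρ')
    rw [show x * (k * ρ * k⁻¹) * x⁻¹ * (k * ρ * k⁻¹)⁻¹ =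
      x * δ * x⁻¹ * (x * ρ * x⁻¹ * ρ⁻¹) * δ⁻¹ by rw [hδdef]; group, h1] at h2
    have hδY : δ ∈ Y := by
      rw [hδdef]
      exact mul_mem ((hkY ρ).mp (hHY hρ.1)) (inv_mem (hHY hρ.1))
    have h3 := hYX' δ⁻¹ (inv_mem hδY) _ h2
    simpa [mul_assoc] using h3
  let Zc : Subgroup G :=
    { carrier := {a | a ∈ res T ∧ ∀ x ∈ res T, x * a * x⁻¹ * a⁻¹ ∈ X'}
      one_mem' := ⟨one_mem _, fun x _ => by simp⟩
      mul_mem' := fun {a b} ha hb => ⟨mul_mem ha.1 hb.1, fun x hx => by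
        have h1 := hYX' a (hHY ha.1) _ (hb.2 x hx)
        rw [show x * (a * b) * x⁻¹ * (a * b)⁻¹ = x * a * x⁻¹ * a⁻¹ * (a * (x * b * x⁻¹ * b⁻¹) * a⁻¹) by group]
        exact mul_mem (ha.2 x hx) h1⟩
      inv_mem' := fun {a} ha => ⟨inv_mem ha.1, fun x hx => by
        have h1 := hYX' a⁻¹ (inv_mem (hHY ha.1)) _ (inv_mem (ha.2 x hx))
        rw [show x * a⁻¹ * x⁻¹ * a⁻¹⁻¹ = a⁻¹ * (x * a * x⁻¹ * a⁻¹)⁻¹ * a⁻¹⁻¹ by group]
        exact h1⟩ }
  have hZn : res T ≤ normalizer (Zc : Set G) := by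
    have key : ∀ y ∈ res T, ∀ a ∈ Zc, y * a * y⁻¹ ∈ Zc := fun y hy a ha => by
      have hmem : y * a * y⁻¹ * a⁻¹ ∈ X' := ha.2 y hy
      refine ⟨mul_mem (mul_mem hy ha.1) (inv_mem hy), fun x hx => ?_⟩
      have h1 := hYX' y (hHY hy) _ (ha.2 (y⁻¹ * x * y) (mul_mem (mul_mem (inv_mem hy) hx) hy))
      rw [show x * (y * a * y⁻¹) * x⁻¹ * (y * a * y⁻¹)⁻¹ =
        y * (y⁻¹ * x * y * a * (y⁻¹ * x * y)⁻¹ * a⁻¹) * y⁻¹ by group]
      exact h1
    exact fun y hy => mem_normalizer_iff.mpr fun a =>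
      ⟨key y hy a, fun ha => by simpa [mul_assoc] using key y⁻¹ (inv_mem hy) _ ha⟩
  have hRZ : R ≤ Zc := fun ρ hρ => ⟨hρ.1, fun x hx => hcomm x hx ρ hρ⟩
  have hHZ : res T ≤ Zc := le_of_odd_relIndex (res_perfect T) hZn
    ((odd_relIndex_res h.closed).of_dvd_nat (relIndex_dvd_of_le_left _ hRZ))
  have hHX' : res T ≤ X' := by
    rw [← res_perfect T, commutator_le]
    intro x hx a ha
    exact (hHZ ha).2 x hx
  -- `R` is a Sylow subgroup of `X'`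
  have hoddX : Odd (R.relIndex X) := by
    set M := centralizerPPrimeCore 2 z ⊔ res T with hM
    have hres : res T ≤ centralizer ({z} : Set G) := hHY.trans hYz
    have h1 : Odd ((res T).relIndex M) := by
      refine Odd.of_dvd_nat (Nat.coprime_two_right.mp
        (card_pPrimeCore_coprime (G := ↥(centralizer ({z} : Set G))) 2)) ?_
      rw [hM, sup_comm, relIndex_sup_of_le_normalizer (hres.trans (CfsgLib.AfterFT.CoreSep.cc_le_normalizer_core z))]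
      refine (relIndex_dvd_card _ _).trans ?_
      rw [centralizerPPrimeCore, card_map_of_injective (subtype_injective _)]
    refine Odd.of_dvd_nat ((odd_relIndex_res h.closed).mul h1) ?_
    rw [relIndex_mul_relIndex _ _ _ inf_le_left le_sup_right]
    exact ⟨_, (relIndex_mul_relIndex _ _ _ hRX inf_le_left).symm⟩
  have hRX' : R ≤ X' := fun x hx => hHX' hx.1
  have hoddX' : Odd (R.relIndex X') := by
    have e1 := card_eq_card_quotient_mul_card_subgroup (R.subgroupOf X)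
    have e2 := card_eq_card_quotient_mul_card_subgroup (R.subgroupOf X')
    rw [Nat.card_congr (subgroupOfEquivOfLe hRX).toEquiv, ← index_eq_card] at e1
    rw [Nat.card_congr (subgroupOfEquivOfLe hRX').toEquiv, ← index_eq_card,
      hX', card_map_of_injective (MulAut.conj k).injective, e1] at e2
    have : R.relIndex X = R.relIndex X' := Nat.eq_of_mul_eq_mul_right Nat.card_pos e2
    exact this ▸ hoddX
  have hW : (S : Subgroup G) ⊓ X' ≤ R := by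
    refine relIndex_eq_one.mp ?_
    obtain ⟨n, hn⟩ := IsPGroup.iff_card.mp (S.2.to_le (inf_le_left : (S : Subgroup G) ⊓ X' ≤ S))
    have hd1 : R.relIndex ((S : Subgroup G) ⊓ X') ∣ 2 ^ n := hn ▸ relIndex_dvd_card _ _
    have hd2 : R.relIndex ((S : Subgroup G) ⊓ X') ∣ R.relIndex X' :=
      ⟨_, (relIndex_mul_relIndex _ _ _ (le_inf inf_le_right hRX') inf_le_right).symm⟩
    exact Nat.eq_one_of_dvd_coprimes ((Nat.coprime_two_left.mpr hoddX').pow_left n) hd1 hd2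
  exact hW ⟨hQ ((mem_normalizer_iff.mp hk.1 r).mp (hRQ hr)), r, hRX hr, rfl⟩

/-- Fusion in the normaliser of a fully normalised subgroup, given fusion at bigger ones. -/
theorem fusion_normalizer {Q₀ U₀ : Subgroup G} (hQ₀S : Q₀ ≤ (S : Subgroup G))
    (hU₀N : U₀ ≤ normalizer (Q₀ : Set G)) (hU₀S : U₀ ≤ (S : Subgroup G)) (hU₀2 : IsPGroup 2 U₀)
    (hU₀odd : Odd (U₀.relIndex (normalizer (Q₀ : Set G))))
    (hUmax : (S : Subgroup G) ⊓ normalizer (Q₀ : Set G) ≤ U₀)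
    (bigger : ∀ W : Subgroup G, W ≤ (S : Subgroup G) → ¬ W ≤ Q₀ → ∀ m ∈ normalizer (Q₀ : Set G),
      (∀ x ∈ W, m * x * m⁻¹ ∈ (S : Subgroup G)) → ∀ r' ∈ res T ⊓ (S : Subgroup G), r' ∈ Q₀ →
      m * r' * m⁻¹ ∈ res T ⊓ (S : Subgroup G))
    {c : G} (hc : c ∈ normalizer (Q₀ : Set G)) {r' : G} (hr' : r' ∈ res T ⊓ (S : Subgroup G)) (hrQ' : r' ∈ Q₀) :
    c * r' * c⁻¹ ∈ res T ⊓ (S : Subgroup G) := by
  haveI : Fact (Nat.Prime 2) := ⟨Nat.prime_two⟩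
  have hQ₀U₀ : Q₀ ≤ U₀ := (le_inf hQ₀S le_normalizer).trans hUmax
  -- the centraliser of `Q₀`
  by_cases hCQ : U₀ ⊓ centralizer (Q₀ : Set G) ≤ Q₀
  swap
  · obtain ⟨x, hx, m, hm, e⟩ := frattini_split (centralizer_le_normalizer' Q₀)
      (normalizer_le_normalizer_centralizer Q₀) hU₀2 hU₀odd hc
    have hmr := bigger _ (inf_le_left.trans hU₀S) hCQ m hm.1
      (fun w hw => hU₀S ((mem_normalizer_iff.mp hm.2 w).mp hw).1) r' hr' hrQ'
    have hfix := hx (m * r' * m⁻¹) ((mem_normalizer_iff.mp hm.1 r').mp hrQ')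
    rw [e, show x * m * r' * (x * m)⁻¹ = x * (m * r' * m⁻¹) * x⁻¹ by group, ← hfix, mul_inv_cancel_right]
    exact hmr
  have hzQ : z ∈ Q₀ := by
    have hzc : z ∈ centralizer (Q₀ : Set G) := fun q hq => h.central q (hQ₀S hq)
    exact hCQ ⟨hUmax ⟨h.closed.1 h.mem, centralizer_le_normalizer' _ hzc⟩, hzc⟩
  set V := T ⊓ Q₀ with hVdef
  have hV : normalizer (Q₀ : Set G) ≤ normalizer (V : Set G) := fun n hn => mem_normalizer_of_maps fun v hv =>
    have hvQ : n * v * n⁻¹ ∈ Q₀ := (mem_normalizer_iff.mp hn v).mp hv.2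
    ⟨h.closed.2 v hv.1 n (hQ₀S hvQ), hvQ⟩
  by_cases hTQ : T ≤ Q₀
  · have hVT : V = T := inf_eq_left.mpr hTQ
    have hcT : c ∈ normalizer (T : Set G) := hVT ▸ hV hc
    exact ⟨res_conj (mem_normalizer_iff.mp hcT) hr'.1, hQ₀S ((mem_normalizer_iff.mp hc r').mp hrQ')⟩
  have hST : ∀ q ∈ (S : Subgroup G), ∀ t ∈ T, q * t * q⁻¹ ∈ T := fun q hq t ht =>
    (conj_closed h.closed (mem_conj_iff _ hq) t).mp ht
  -- a subgroup of `S` not in `Q₀`, normalised by `Q₀`, meets `N(Q₀)` outside `Q₀`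
  have hout : ∀ W : Subgroup G, W ≤ (S : Subgroup G) → (∀ q ∈ Q₀, ∀ w ∈ W, q * w * q⁻¹ ∈ W) → ¬ W ≤ Q₀ →
      ¬ W ⊓ U₀ ≤ Q₀ := by
    intro W hWS hnorm hWQ hle
    have hlt0 : Q₀ < Q₀ ⊔ W := left_lt_sup.mpr hWQ
    obtain ⟨x, hx, hxQ⟩ :=
      SetLike.exists_of_lt (CfsgLib.PairSol.normalizer_grows (S.2.to_le (sup_le hQ₀S hWS)) hlt0)
    have hQn : Q₀ ≤ normalizer (W : Set G) := fun q hq => mem_normalizer_of_maps fun w hw => hnorm q hq w hw
    have hxS : x ∈ Q₀ ⊔ W := hx.1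
    rw [← SetLike.mem_coe, coe_mul_of_left_le_normalizer_right _ _ hQn] at hxS
    obtain ⟨q, hq, w, hw, e⟩ := hxS
    have hwN : w ∈ normalizer (Q₀ : Set G) := by
      rw [show w = q⁻¹ * x by rw [← e]; group]
      exact mul_mem (inv_mem (le_normalizer hq)) hx.2
    exact hxQ (e ▸ mul_mem hq (hle ⟨hw, hUmax ⟨hWS hw, hwN⟩⟩))
  obtain ⟨k, hk, m, hm, e⟩ := frattini_split (K := stab Q₀ V hV) (fun x hx => hx.1) (stab_normal hV) hU₀2 hU₀odd hc
  have hTFK : T ⊓ U₀ ≤ stab Q₀ V hV := fun t ht => ⟨hU₀N ht.2, fun q hq => by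
    have h1 : q * t⁻¹ * q⁻¹ ∈ T := hST q (hQ₀S hq) _ (inv_mem ht.1)
    refine ⟨?_, Q₀.mul_mem ((mem_normalizer_iff.mp (hU₀N ht.2) q).mp hq) (Q₀.inv_mem hq)⟩
    rw [show t * q * t⁻¹ * q⁻¹ = t * (q * t⁻¹ * q⁻¹) by group]
    exact mul_mem ht.1 h1⟩
  have hTF : ¬ T ⊓ U₀ ≤ Q₀ := hout T h.closed.1 (fun q hq => hST q (hQ₀S hq)) hTQ
  have hmr := bigger _ (inf_le_right.trans hU₀S) hTF m hm.1
    (fun w hw => hU₀S ((mem_normalizer_iff.mp hm.2 w).mp ⟨hw.2, hTFK hw⟩).1) r' hr' hrQ'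
  have hmQ : m * r' * m⁻¹ ∈ Q₀ := (mem_normalizer_iff.mp hm.1 r').mp hrQ'
  rw [e, show k * m * r' * (k * m)⁻¹ = k * (m * r' * m⁻¹) * k⁻¹ by group]
  generalize m * r' * m⁻¹ = r₁ at hmr hmQ ⊢
  -- the stabiliser of `Q₀ / V` and `V`
  set A₀ := stab Q₀ V hV ⊓ centralizer (V : Set G) with hA₀
  have hUs : Odd ((U₀ ⊓ stab Q₀ V hV).relIndex (stab Q₀ V hV)) :=
    odd_inf (fun x hx => hx.1) (stab_normal hV) hU₀2 hU₀odd
  have hA₀n : stab Q₀ V hV ≤ normalizer (A₀ : Set G) := fun n hn => mem_normalizer_of_maps fun x hx =>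
    ⟨(stab Q₀ V hV).mul_mem (mul_mem hn hx.1) (inv_mem hn), conj_mem_centralizer (hV hn.1) hx.2⟩
  have hA₀N : A₀ ≤ normalizer (Q₀ : Set G) := fun x hx => hx.1.1
  have hUA : ∀ x ∈ A₀, ∃ o ∈ centralizer (Q₀ : Set G), ∃ p ∈ U₀ ⊓ A₀, x = o * p := by
    intro x hx
    have hnC : A₀ ≤ normalizer ((centralizer (Q₀ : Set G) ⊓ A₀ : Subgroup G) : Set G) := fun y hy =>
      mem_normalizer_of_maps fun w hw => ⟨conj_mem_centralizer (hA₀N hy) hw.1, A₀.mul_mem (A₀.mul_mem hy hw.2) (A₀.inv_mem hy)⟩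
    set M₀ := (centralizer (Q₀ : Set G) ⊓ A₀) ⊔ (U₀ ⊓ A₀)
    haveI hn : ((centralizer (Q₀ : Set G) ⊓ A₀).subgroupOf A₀).Normal := normal_subgroupOf_of_le_normalizer hnC
    have h2 : IsPGroup 2 (A₀ ⧸ (centralizer (Q₀ : Set G) ⊓ A₀).subgroupOf A₀) := by
      intro y
      obtain ⟨⟨y, hy⟩, rfl⟩ := QuotientGroup.mk_surjective y
      obtain ⟨j, hj⟩ := stab_pow hV (S.2.to_le (inf_le_left.trans h.closed.1)) hy.1 hy.2
      refine ⟨j, (QuotientGroup.eq_one_iff _).mpr ?_⟩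
      exact ⟨hj, pow_mem hy _⟩
    obtain ⟨i, hi⟩ := IsPGroup.iff_card.mp h2
    have hd1 : M₀.relIndex A₀ ∣ 2 ^ i := by
      rw [← hi, ← index_eq_card]
      exact relIndex_dvd_of_le_left A₀ le_sup_left
    have hd2 : M₀.relIndex A₀ ∣ (U₀ ⊓ A₀).relIndex A₀ := relIndex_dvd_of_le_left A₀ le_sup_right
    have hodd : Odd ((U₀ ⊓ A₀).relIndex A₀) := by
      have h := odd_inf (inf_le_left : A₀ ≤ stab Q₀ V hV) hA₀n
        (hU₀2.to_le (inf_le_left : U₀ ⊓ stab Q₀ V hV ≤ U₀)) hUs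
      rwa [inf_assoc, inf_eq_right.mpr (inf_le_left : A₀ ≤ stab Q₀ V hV)] at h
    have hM₀ : A₀ ≤ M₀ := relIndex_eq_one.mp
      (Nat.eq_one_of_dvd_coprimes ((Nat.coprime_two_left.mpr hodd).pow_left i) hd1 hd2)
    have hx' := hM₀ hx
    rw [← SetLike.mem_coe, coe_mul_of_right_le_normalizer_left _ _ (inf_le_right.trans hnC)] at hx'
    obtain ⟨o, ho, p, hp, e⟩ := hx'
    exact ⟨o, ho.1, p, hp, e.symm⟩
  have hA₀fix : ∀ x ∈ A₀, ∀ ρ ∈ res T ⊓ (S : Subgroup G), ρ ∈ Q₀ → x * ρ * x⁻¹ ∈ res T ⊓ (S : Subgroup G) := by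
    intro x hx ρ hρ hρQ
    obtain ⟨o, ho, p, hp, rfl⟩ := hUA x hx
    have hpS : p ∈ (S : Subgroup G) := hU₀S hp.1
    have h1 : p * ρ * p⁻¹ ∈ res T ⊓ (S : Subgroup G) :=
      ⟨sylow_conj_res h.closed hpS hρ.1, (S : Subgroup G).mul_mem ((S : Subgroup G).mul_mem hpS hρ.2) ((S : Subgroup G).inv_mem hpS)⟩
    have h2 := ho _ ((mem_normalizer_iff.mp (hU₀N hp.1) ρ).mp hρQ)
    rw [show o * p * ρ * (o * p)⁻¹ = o * (p * ρ * p⁻¹) * o⁻¹ by group, ← h2, mul_inv_cancel_right]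
    exact h1
  obtain ⟨a₁, ha₁, m₁, hm₁, e₁⟩ := frattini_split (F := stab Q₀ V hV) (K := A₀) inf_le_left hA₀n
    (hU₀2.to_le (inf_le_left : U₀ ⊓ stab Q₀ V hV ≤ U₀)) hUs hk
  suffices hm' : m₁ * r₁ * m₁⁻¹ ∈ res T ⊓ (S : Subgroup G) by
    rw [e₁, show a₁ * m₁ * r₁ * (a₁ * m₁)⁻¹ = a₁ * (m₁ * r₁ * m₁⁻¹) * a₁⁻¹ by group]
    exact hA₀fix a₁ ha₁ _ hm' ((mem_normalizer_iff.mp hm₁.1.1 r₁).mp hmQ)
  by_cases hPA : U₀ ⊓ stab Q₀ V hV ⊓ A₀ ≤ Q₀
  swap
  · exact bigger _ ((inf_le_left.trans inf_le_left).trans hU₀S) hPA m₁ hm₁.1.1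
      (fun w hw => hU₀S ((mem_normalizer_iff.mp hm₁.2 w).mp hw).1.1) r₁ hmr hmQ
  by_cases hRQ : res T ⊓ (S : Subgroup G) ≤ Q₀
  · exact h.stab_fix hQ₀S hzQ hRQ hV hm₁.1 hmr
  -- `m₁` normalises `Q₀ R_F` up to `C(Q₀)`
  set RF := res T ⊓ (S : Subgroup G) ⊓ U₀ with hRFdef
  have hRF : ¬ RF ≤ Q₀ := hout _ inf_le_right (fun q hq w hw =>
    ⟨sylow_conj_res h.closed (hQ₀S hq) hw.1, (S : Subgroup G).mul_mem ((S : Subgroup G).mul_mem (hQ₀S hq) hw.2) ((S : Subgroup G).inv_mem (hQ₀S hq))⟩) hRQ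
  set C₀ := centralizer (Q₀ : Set G) with hC₀
  set W₀ := Q₀ ⊔ RF with hW₀
  have hW₀U : W₀ ≤ U₀ := sup_le hQ₀U₀ inf_le_right
  have hC₀n : normalizer (Q₀ : Set G) ≤ normalizer (C₀ : Set G) := normalizer_le_normalizer_centralizer Q₀
  have hA₀le : A₀ ≤ C₀ ⊔ W₀ := fun x hx => by
    obtain ⟨o, ho, p, hp, rfl⟩ := hUA x hx
    exact mul_mem (mem_sup_left ho) (mem_sup_right (mem_sup_left (hPA ⟨⟨hp.1, hp.2.1⟩, hp.2⟩)))
  have hmY : ∀ x ∈ C₀ ⊔ W₀, m₁ * x * m₁⁻¹ ∈ C₀ ⊔ W₀ := by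
    have hle : C₀ ⊔ W₀ ≤ (C₀ ⊔ W₀).comap (MulAut.conj m₁).toMonoidHom := by
      refine sup_le (fun x hx => mem_sup_left ((mem_normalizer_iff.mp (hC₀n hm₁.1.1) x).mp hx)) (sup_le ?_ ?_)
      · exact fun x hx => mem_sup_right (mem_sup_left ((mem_normalizer_iff.mp hm₁.1.1 x).mp hx))
      · intro ρ hρ
        show m₁ * ρ * m₁⁻¹ ∈ C₀ ⊔ W₀
        rw [show m₁ * ρ * m₁⁻¹ = (m₁ * ρ * m₁⁻¹ * ρ⁻¹) * ρ by group]
        refine mul_mem (hA₀le ?_) (mem_sup_right (mem_sup_right hρ))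
        have hρV : ρ ∈ centralizer (V : Set G) := fun v hv => res_le T hρ.1.1 v hv.1
        have hρN : ρ ∈ normalizer (Q₀ : Set G) := hU₀N hρ.2
        refine ⟨?_, ?_⟩
        · rw [show m₁ * ρ * m₁⁻¹ * ρ⁻¹ = m₁ * (ρ * m₁⁻¹ * ρ⁻¹) by group]
          exact mul_mem hm₁.1 (stab_conj hV hρN (inv_mem hm₁.1))
        · intro v hv
          have h1 := hρV _ (show m₁⁻¹ * v * m₁ ∈ V by
            simpa using (mem_normalizer_iff.mp (inv_mem (hV hm₁.1.1)) v).mp hv)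
          have h2 : v * ρ⁻¹ = ρ⁻¹ * v := inv_mem hρV v hv
          calc v * (m₁ * ρ * m₁⁻¹ * ρ⁻¹) = m₁ * (m₁⁻¹ * v * m₁ * ρ) * m₁⁻¹ * ρ⁻¹ := by group
            _ = m₁ * (ρ * (m₁⁻¹ * v * m₁)) * m₁⁻¹ * ρ⁻¹ := by rw [h1]
            _ = m₁ * ρ * m₁⁻¹ * (v * ρ⁻¹) := by group
            _ = m₁ * ρ * m₁⁻¹ * ρ⁻¹ * v := by rw [h2]; group
    exact fun x hx => hle hx
  have hY₀N : C₀ ⊔ W₀ ≤ normalizer (Q₀ : Set G) := sup_le (centralizer_le_normalizer' Q₀) (hW₀U.trans hU₀N)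
  have hW₀n : W₀ ≤ normalizer (C₀ : Set G) := (hW₀U.trans hU₀N).trans hC₀n
  have hW₀odd : Odd (W₀.relIndex (C₀ ⊔ W₀)) := by
    rw [sup_comm, relIndex_sup_of_le_normalizer hW₀n, ← inf_relIndex_right W₀ C₀]
    refine Odd.of_dvd_nat (odd_inf (centralizer_le_normalizer' Q₀) hC₀n hU₀2 hU₀odd) ?_
    exact relIndex_dvd_of_le_left C₀ (le_inf (hCQ.trans le_sup_left) inf_le_right)
  -- conjugate the image of `W₀` back inside `C₀ W₀`
  obtain ⟨y, hy, hyW⟩ : ∃ y ∈ C₀ ⊔ W₀, ∀ w ∈ W₀, y⁻¹ * (m₁ * w * m₁⁻¹) * y ∈ W₀ := by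
    let P : Sylow 2 ↥(C₀ ⊔ W₀) := ((hU₀2.to_le hW₀U).comap_of_injective (C₀ ⊔ W₀).subtype
      (subtype_injective _)).toSylow (Nat.two_dvd_ne_zero.mpr (Nat.odd_iff.mp hW₀odd))
    obtain ⟨P', hP'⟩ := (((hU₀2.to_le hW₀U).map (MulAut.conj m₁).toMonoidHom).comap_of_injective
      (C₀ ⊔ W₀).subtype (subtype_injective _)).exists_le_sylow
    obtain ⟨y, hy⟩ := MulAction.exists_smul_eq ↥(C₀ ⊔ W₀) P' P
    refine ⟨(y : G)⁻¹, inv_mem y.2, fun w hw => ?_⟩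
    have hm' : (⟨_, hmY w (mem_sup_right hw)⟩ : ↥(C₀ ⊔ W₀)) ∈ (P' : Subgroup _) := hP' ⟨w, hw, rfl⟩
    have : y * (⟨_, hmY w (mem_sup_right hw)⟩ : ↥(C₀ ⊔ W₀)) * y⁻¹ ∈ (P : Subgroup _) := by
      rw [← hy, Sylow.coe_subgroup_smul]
      exact ⟨_, hm', rfl⟩
    rw [inv_inv]
    exact this
  rw [← SetLike.mem_coe, coe_mul_of_right_le_normalizer_left _ _ hW₀n] at hy
  obtain ⟨o, ho, w₀, hw₀, rfl⟩ := hy
  have hom : o⁻¹ * m₁ ∈ normalizer (Q₀ : Set G) :=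
    mul_mem (inv_mem (centralizer_le_normalizer' _ ho)) hm₁.1.1
  have homW : ∀ w ∈ RF, o⁻¹ * m₁ * w * (o⁻¹ * m₁)⁻¹ ∈ (S : Subgroup G) := fun w hw => by
    refine (hW₀U.trans hU₀S) ?_
    have h1 := mul_mem (mul_mem hw₀ (hyW w (mem_sup_right hw))) (inv_mem hw₀)
    rw [show o⁻¹ * m₁ * w * (o⁻¹ * m₁)⁻¹ = w₀ * ((o * w₀)⁻¹ * (m₁ * w * m₁⁻¹) * (o * w₀)) * w₀⁻¹ by group]
    exact h1
  have hb := bigger RF (inf_le_right.trans hU₀S) hRF _ hom homW r₁ hmr hmQ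
  have hfix := ho _ ((mem_normalizer_iff.mp hom r₁).mp hmQ)
  rw [show m₁ * r₁ * m₁⁻¹ = o * (o⁻¹ * m₁ * r₁ * (o⁻¹ * m₁)⁻¹) * o⁻¹ by group, ← hfix, mul_inv_cancel_right]
  exact hb

/-- The residual's Sylow subgroup is preserved by fusion. -/
theorem fusion : ∀ (Q : Subgroup G), Q ≤ (S : Subgroup G) → ∀ g : G, (∀ q ∈ Q, g * q * g⁻¹ ∈ (S : Subgroup G)) →
    ∀ r ∈ res T ⊓ (S : Subgroup G), r ∈ Q → g * r * g⁻¹ ∈ res T ⊓ (S : Subgroup G) := by
  haveI : Fact (Nat.Prime 2) := ⟨Nat.prime_two⟩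
  intro Q
  induction hn : Nat.card (S : Subgroup G) - Nat.card Q using Nat.strong_induction_on generalizing Q with
  | _ n ih =>
  intro hQ g hg r hr hrQ
  have hcS : Nat.card Q ≤ Nat.card (S : Subgroup G) := card_le_of_le hQ
  -- the induction hypothesis at bigger subgroups
  have step : ∀ Q' : Subgroup G, Nat.card Q < Nat.card Q' → Q' ≤ (S : Subgroup G) → ∀ g' : G,
      (∀ q ∈ Q', g' * q * g'⁻¹ ∈ (S : Subgroup G)) → ∀ r' ∈ res T ⊓ (S : Subgroup G), r' ∈ Q' →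
      g' * r' * g'⁻¹ ∈ res T ⊓ (S : Subgroup G) := fun Q' hlt hQ' =>
    ih _ (by have := card_le_of_le hQ'; omega) Q' rfl hQ'
  rcases eq_or_lt_of_le hQ with rfl | hlt
  · have hgS : g ∈ normalizer ((S : Subgroup G) : Set G) := mem_normalizer_of_maps hg
    exact ⟨res_conj (conj_closed h.closed (mem_normalizer_iff.mp hgS)) hr.1, hg r hrQ⟩
  -- pass to a fully normalised conjugate
  set Q₁ := Q.map (MulAut.conj g).toMonoidHom with hQ₁def
  have hQ₁ : Q₁ ≤ (S : Subgroup G) := by rintro _ ⟨q, hq, rfl⟩; exact hg q hq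
  obtain ⟨a, U, hSU, hUN, hU2, hUodd, haU⟩ := exists_fully S hQ
  obtain ⟨a', U', hSU', hU'N, hU'2, -, -⟩ := exists_fully S hQ₁
  set Q₀ := Q.map (MulAut.conj a).toMonoidHom with hQ₀def
  set U₀ := U.map (MulAut.conj a).toMonoidHom with hU₀def
  have hQU : Q ≤ U := (le_inf hQ le_normalizer).trans hSU
  have hQ₀U₀ : Q₀ ≤ U₀ := map_mono hQU
  have hU₀S : U₀ ≤ (S : Subgroup G) := by rintro _ ⟨u, hu, rfl⟩; exact haU u hu
  have hN₀ : normalizer (Q₀ : Set G) = (normalizer (Q : Set G)).map (MulAut.conj a).toMonoidHom := by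
    rw [hQ₀def, ← map_equiv_normalizer_eq]
  have hU₀odd : Odd (U₀.relIndex (normalizer (Q₀ : Set G))) := by
    rw [hN₀, hU₀def, relIndex_map_map_of_injective _ _ (MulAut.conj a).injective]
    exact hUodd
  have hgrow : Nat.card Q < Nat.card ((S : Subgroup G) ⊓ normalizer (Q : Set G) : Subgroup G) := by
    exact card_lt_of_lt (CfsgLib.PairSol.normalizer_grows S.2 hlt)
  have hcard₁ : Nat.card Q₁ = Nat.card Q := card_map_of_injective (MulAut.conj g).injective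
  have hlt₁ : Q₁ < (S : Subgroup G) := lt_of_le_of_ne hQ₁ fun e => by
    have hh := card_lt_of_lt hlt
    rw [← hcard₁, e] at hh
    exact lt_irrefl _ hh
  have hgrow₁ : Nat.card Q < Nat.card ((S : Subgroup G) ⊓ normalizer (Q₁ : Set G) : Subgroup G) :=
    hcard₁ ▸ card_lt_of_lt (CfsgLib.PairSol.normalizer_grows S.2 hlt₁)
  -- `b = c a g⁻¹` maps the normaliser of `Q₁` in `S` into `U₀`
  have hN₁ : ∀ x ∈ normalizer (Q₁ : Set G), a * g⁻¹ * x * (a * g⁻¹)⁻¹ ∈ normalizer (Q₀ : Set G) := by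
    intro x hx
    have h1 : g⁻¹ * x * g ∈ normalizer (Q : Set G) := by
      refine mem_normalizer_of_maps fun q hq => ?_
      obtain ⟨q', hq', e⟩ := (mem_normalizer_iff.mp hx (g * q * g⁻¹)).mp ⟨q, hq, rfl⟩
      have e' : g * q' * g⁻¹ = x * (g * q * g⁻¹) * x⁻¹ := e
      have : g⁻¹ * x * g * q * (g⁻¹ * x * g)⁻¹ = q' := by
        calc g⁻¹ * x * g * q * (g⁻¹ * x * g)⁻¹ = g⁻¹ * (x * (g * q * g⁻¹) * x⁻¹) * g := by group
          _ = q' := by rw [← e']; group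
      rw [this]; exact hq'
    rw [hN₀]
    exact ⟨_, h1, by show a * (g⁻¹ * x * g) * a⁻¹ = _; group⟩
  obtain ⟨c, hc, hcU⟩ : ∃ c ∈ normalizer (Q₀ : Set G), ∀ x ∈ (S : Subgroup G) ⊓ normalizer (Q₁ : Set G),
      c * (a * g⁻¹ * x * (a * g⁻¹)⁻¹) * c⁻¹ ∈ U₀ := by
    let W := ((S : Subgroup G) ⊓ normalizer (Q₁ : Set G)).map (MulAut.conj (a * g⁻¹)).toMonoidHom
    have hWN : W ≤ normalizer (Q₀ : Set G) := by rintro _ ⟨x, hx, rfl⟩; exact hN₁ x hx.2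
    let P : Sylow 2 (normalizer (Q₀ : Set G)) :=
      ((hU2.map _).comap_of_injective (normalizer (Q₀ : Set G)).subtype (subtype_injective _)).toSylow
        (Nat.two_dvd_ne_zero.mpr (Nat.odd_iff.mp hU₀odd))
    obtain ⟨P', hP'⟩ := (((S.2.to_le (inf_le_left : (S : Subgroup G) ⊓ normalizer (Q₁ : Set G) ≤ S)).map
      (MulAut.conj (a * g⁻¹)).toMonoidHom).comap_of_injective (normalizer (Q₀ : Set G)).subtype
        (subtype_injective _)).exists_le_sylow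
    obtain ⟨c, hc⟩ := MulAction.exists_smul_eq (normalizer (Q₀ : Set G)) P' P
    refine ⟨c, c.2, fun x hx => ?_⟩
    have hm : (⟨_, hWN ⟨x, hx, rfl⟩⟩ : normalizer (Q₀ : Set G)) ∈ (P' : Subgroup _) := hP' ⟨x, hx, rfl⟩
    have : c * (⟨_, hWN ⟨x, hx, rfl⟩⟩ : normalizer (Q₀ : Set G)) * c⁻¹ ∈ (P : Subgroup _) := by
      rw [← hc, Sylow.coe_subgroup_smul]
      exact ⟨_, hm, rfl⟩
    exact this
  set b := c * (a * g⁻¹) with hb
  set M := ((S : Subgroup G) ⊓ normalizer (Q₁ : Set G)).map (MulAut.conj b).toMonoidHom with hMdef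
  have hMU : M ≤ U₀ := by
    rintro _ ⟨x, hx, rfl⟩
    show b * x * b⁻¹ ∈ U₀
    rw [hb, show c * (a * g⁻¹) * x * (c * (a * g⁻¹))⁻¹ = c * (a * g⁻¹ * x * (a * g⁻¹)⁻¹) * c⁻¹ by group]
    exact hcU x hx
  have hQ₀M : Q₀ ≤ M := by
    intro y hy
    obtain ⟨q, hq, e⟩ := (mem_normalizer_iff.mp (inv_mem hc) y).mp hy
    have e' : a * q * a⁻¹ = c⁻¹ * y * c := by simpa using e
    refine ⟨g * q * g⁻¹, ⟨hQ₁ ⟨q, hq, rfl⟩, le_normalizer ⟨q, hq, rfl⟩⟩, ?_⟩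
    show b * (g * q * g⁻¹) * b⁻¹ = y
    calc b * (g * q * g⁻¹) * b⁻¹ = c * (a * q * a⁻¹) * c⁻¹ := by rw [hb]; group
      _ = y := by rw [e']; group
  have hMcard : Nat.card Q < Nat.card M := by
    rw [hMdef, card_map_of_injective (MulAut.conj b).injective]; exact hgrow₁
  -- it is enough to treat an element of the normaliser of `Q₀`
  suffices key : ∀ r' ∈ res T ⊓ (S : Subgroup G), r' ∈ Q₀ → c * r' * c⁻¹ ∈ res T ⊓ (S : Subgroup G) by
    have h1 : a * r * a⁻¹ ∈ res T ⊓ (S : Subgroup G) :=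
      step _ hgrow inf_le_left a (fun q hq => haU q (hSU hq)) r hr ⟨hQ hrQ, le_normalizer hrQ⟩
    have h1Q : a * r * a⁻¹ ∈ Q₀ := ⟨r, hrQ, rfl⟩
    have h2 := key _ h1 h1Q
    have h2M : c * (a * r * a⁻¹) * c⁻¹ ∈ M := hQ₀M ((mem_normalizer_iff.mp hc _).mp h1Q)
    have h3 := step M hMcard (hMU.trans hU₀S) b⁻¹ (fun q hq => by
      obtain ⟨x, hx, rfl⟩ := hq
      show b⁻¹ * (b * x * b⁻¹) * b⁻¹⁻¹ ∈ (S : Subgroup G)
      rw [show b⁻¹ * (b * x * b⁻¹) * b⁻¹⁻¹ = x by group]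
      exact hx.1) _ h2 h2M
    rw [show g * r * g⁻¹ = b⁻¹ * (c * (a * r * a⁻¹) * c⁻¹) * b⁻¹⁻¹ by rw [hb]; group]
    exact h3
  -- now `Q₀` is fully normalised
  have hQ₀S : Q₀ ≤ (S : Subgroup G) := hQ₀U₀.trans hU₀S
  have hcard₀ : Nat.card Q₀ = Nat.card Q := card_map_of_injective (MulAut.conj a).injective
  have hU₀N : U₀ ≤ normalizer (Q₀ : Set G) := by rw [hN₀]; exact map_mono hUN
  have hU₀2 : IsPGroup 2 U₀ := hU2.map _
  have hUmax : (S : Subgroup G) ⊓ normalizer (Q₀ : Set G) ≤ U₀ := by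
    refine relIndex_eq_one.mp ?_
    obtain ⟨n, hn⟩ := IsPGroup.iff_card.mp
      (S.2.to_le (inf_le_left : (S : Subgroup G) ⊓ normalizer (Q₀ : Set G) ≤ S))
    exact Nat.eq_one_of_dvd_coprimes ((Nat.coprime_two_left.mpr hU₀odd).pow_left n)
      (hn ▸ relIndex_dvd_card _ _)
      ⟨_, (relIndex_mul_relIndex _ _ _ (le_inf hU₀S hU₀N) inf_le_right).symm⟩
  have bigger : ∀ W : Subgroup G, W ≤ (S : Subgroup G) → ¬ W ≤ Q₀ → ∀ m ∈ normalizer (Q₀ : Set G),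
      (∀ x ∈ W, m * x * m⁻¹ ∈ (S : Subgroup G)) → ∀ r' ∈ res T ⊓ (S : Subgroup G), r' ∈ Q₀ →
      m * r' * m⁻¹ ∈ res T ⊓ (S : Subgroup G) := by
    intro W hWS hWQ m hm hmW r' hr' hrQ'
    refine step (Q₀ ⊔ W) (hcard₀ ▸ card_lt_of_lt (left_lt_sup.mpr hWQ)) (sup_le hQ₀S hWS) m ?_ r' hr'
      (mem_sup_left hrQ')
    have hle : Q₀ ⊔ W ≤ (S : Subgroup G).comap (MulAut.conj m).toMonoidHom :=
      sup_le (fun x hx => hQ₀S ((mem_normalizer_iff.mp hm x).mp hx)) fun x hx => hmW x hx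
    exact fun q hq => hle hq
  exact fun r' hr' hrQ' => h.fusion_normalizer hQ₀S hU₀N hU₀S hU₀2 hU₀odd hUmax bigger hc hr' hrQ'

/-- The Sylow subgroup of the residual is strongly closed. -/
theorem res_closed : IsStronglyClosed (res T ⊓ (S : Subgroup G)) (S : Subgroup G) := by
  refine ⟨inf_le_right, fun r hr g hg => ?_⟩
  refine h.fusion (zpowers r) (zpowers_le.mpr hr.2) g (fun q hq => ?_) r hr (mem_zpowers r)
  obtain ⟨i, rfl⟩ := mem_zpowers_iff.mp hq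
  rw [← conj_zpow]
  exact zpow_mem hg i

end Setting

end CfsgLib.ClosedCentral
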