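import Cfsg.Agent.Lib.ClosedCentral.Central
import Cfsg.Agent.Lib.AfterFT.PairClosed.Main
import Cfsg.Agent.Lib.ExtremelyClosed.Descent

/-!
`C(T)^∞` is normal for a strongly closed `T` when the odd core is trivial, given Goldschmidt's theorem on strongly
closed abelian 2-subgroups.
-/

set_option autoImplicit false
set_option linter.unusedSectionVars false
set_option linter.style.haveILetI false

namespace CfsgLib.ClosedCentral

open Cfsg Subgroup CfsgLib.Comp
open CfsgLib.CentralInt (perfCore le_perfCore perfCore_le perfCore_perfect perfCore_top_normal)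
open scoped commutatorElement

universe u

variable {G : Type u} [Group G] [Finite G] {S : Sylow 2 G} {T : Subgroup G}

theorem oddCore_case (ih : ∀ (Y : Type u) [Group Y] [Finite Y], Nat.card Y < Nat.card G → Stmt Y)
    (hO : pPrimeCore 2 G ≠ ⊥) (hT : IsStronglyClosed T (S : Subgroup G)) : (pPrimeCore 2 G ⊔ res T).Normal := by
  haveI : Fact (Nat.Prime 2) := ⟨Nat.prime_two⟩
  set O := pPrimeCore 2 G with hOdef
  have hlt : Nat.card (G ⧸ O) < Nat.card G := by
    rw [card_eq_card_quotient_mul_card_subgroup O]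
    exact lt_mul_of_one_lt_right Nat.card_pos ((one_lt_card_iff_ne_bot O).mpr hO)
  have hN := ih (G ⧸ O) hlt (S.mapSurjective (QuotientGroup.mk'_surjective O)) (T.map (QuotientGroup.mk' O))
    (Cfsg.Agent.S1250.result S T hT O)
  rw [CfsgLib.pPrimeCore_quotient_eq_bot, bot_sup_eq, ← res_map_bar (S.2.to_le hT.1)] at hN
  have h := hN.comap (bar 2 G)
  rw [comap_map_eq, QuotientGroup.ker_mk', sup_comm] at h
  exact h

theorem central_case (ih : ∀ (Y : Type u) [Group Y] [Finite Y], Nat.card Y < Nat.card G → Stmt Y)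
    (hO : pPrimeCore 2 G = ⊥) (hT : IsStronglyClosed T (S : Subgroup G)) {z : G} (hz : z ∈ T)
    (hz2 : orderOf z = 2) (hzc : z ∈ center G) : (res T).Normal := by
  haveI : Fact (Nat.Prime 2) := ⟨Nat.prime_two⟩
  set Z := zpowers z with hZ
  have hZc : Z ≤ center G := zpowers_le.mpr hzc
  haveI : Z.Normal := ⟨fun x hx g => by rwa [mem_center_iff.mp (hZc hx) g, mul_inv_cancel_right]⟩
  have hZcard : Nat.card Z = 2 := by rw [hZ, Nat.card_zpowers, hz2]
  have hlt : Nat.card (G ⧸ Z) < Nat.card G := by
    rw [card_eq_card_quotient_mul_card_subgroup Z]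
    exact lt_mul_of_one_lt_right Nat.card_pos (by omega)
  have hZT : Z ≤ T := zpowers_le.mpr hz
  have hN := ih (G ⧸ Z) hlt (S.mapSurjective (QuotientGroup.mk'_surjective Z)) (T.map (QuotientGroup.mk' Z))
    (Cfsg.Agent.S1250.result S T hT Z)
  rw [CfsgLib.ExtClosed.pPrimeCore_quotient_central Z ((S.2.to_le hT.1).to_le hZT) hZc hO, bot_sup_eq,
    ← res_map_central hZT hZc] at hN
  have h := perfCore_normal (hN.comap (QuotientGroup.mk' Z))
  rw [comap_map_eq, QuotientGroup.ker_mk'] at h
  have e : perfCore (res T ⊔ Z) = res T := by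
    refine le_antisymm (le_perfCore ((perfCore_le _).trans (sup_le (res_le T) ?_)) (perfCore_perfect _))
      (le_perfCore le_sup_left (res_perfect T))
    exact fun x hx t _ => mem_center_iff.mp (hZc hx) t
  rwa [e] at h

/-- An involution of `T` central in `S` gives a setting. -/
theorem setting_of_ih (ih : ∀ (Y : Type u) [Group Y] [Finite Y], Nat.card Y < Nat.card G → Stmt Y)
    (hT : IsStronglyClosed T (S : Subgroup G)) {z : G} (hz : z ∈ T) (hzS : ∀ s ∈ (S : Subgroup G), s * z = z * s)
    (hzc : z ∉ center G) : Setting S T z := by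
  refine ⟨hT, hz, hzS, ?_⟩
  set F := centralizer ({z} : Set G) with hF
  have hSF : (S : Subgroup G) ≤ F := fun s hs => mem_centralizer_singleton_iff.mpr (hzS s hs)
  have hCF : centralizer (T : Set G) ≤ F := fun x hx => mem_centralizer_singleton_iff.mpr (hx z hz).symm
  have hlt : Nat.card F < Nat.card G := lt_of_le_of_ne (card_le_card_group F) fun e =>
    hzc (mem_center_iff.mpr fun g => mem_centralizer_singleton_iff.mp ((eq_top_of_card_eq F e).ge (mem_top g)))
  have hN := ih F hlt (S.subtype hSF) (T.subgroupOf F) (by rw [Sylow.coe_subtype]; exact closed_sub hT)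
  have e : (pPrimeCore 2 ↥F ⊔ res (T.subgroupOf F)).map F.subtype = centralizerPPrimeCore 2 z ⊔ res T := by
    rw [Subgroup.map_sup, res_sub (hT.1.trans hSF) hCF]
    rfl
  rw [← e]
  refine (normal_subgroupOf_iff_le_normalizer (map_subtype_le _)).mp ?_
  rwa [show ((pPrimeCore 2 ↥F ⊔ res (T.subgroupOf F)).map F.subtype).subgroupOf F = _ from
    comap_map_eq_self_of_injective F.subtype_injective _]

/-- No involution of `T` lies in the residual: the two strongly closed subgroups generate commuting normal subgroups. -/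
theorem disjoint_case (hO : pPrimeCore 2 G = ⊥) (hT : IsStronglyClosed T (S : Subgroup G))
    (hR : IsStronglyClosed (res T ⊓ (S : Subgroup G)) (S : Subgroup G)) (hi : invol T = ⊥) :
    (res T).Normal := by
  haveI : Fact (Nat.Prime 2) := ⟨Nat.prime_two⟩
  have hd : T ⊓ (res T ⊓ (S : Subgroup G)) = ⊥ := by
    by_contra hne
    have hV : IsPGroup 2 (T ⊓ (res T ⊓ (S : Subgroup G)) : Subgroup G) := S.2.to_le (inf_le_left.trans hT.1)
    obtain ⟨w, hw⟩ := exists_prime_orderOf_dvd_card' 2
      (hV.card_eq_or_dvd.resolve_left fun h => hne (eq_bot_of_card_eq _ h))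
    have hw2 : (w : G) * w = 1 := by
      have h := pow_orderOf_eq_one w
      rw [hw, pow_two] at h
      exact congrArg Subtype.val h
    have hwi : (w : G) ∈ invol T := ⟨⟨w.2.2.1, w.2.1⟩, hw2⟩
    rw [hi, mem_bot] at hwi
    rw [show w = 1 from Subtype.ext hwi, orderOf_one] at hw
    omega
  have h := AfterFT.PairClosed.commutator_normalClosure_le (fun H _ _ h => Cfsg.Agent.S0205.result h) S T
    (res T ⊓ (S : Subgroup G)) hT hR (fun a ha b hb => res_commute hb.1 ha) hd
  rw [show oddCore G = ⊥ from hO, le_bot_iff, commutator_comm, commutator_eq_bot_iff_le_centralizer] at h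
  set C := centralizer (normalClosure (T : Set G) : Set G) with hC
  haveI : C.Normal := by rw [hC]; infer_instance
  have hle : res T ≤ C := le_of_odd_relIndex (res_perfect T) (by rw [normalizer_eq_top]; exact le_top)
    (Odd.of_dvd_nat (odd_relIndex_res hT) (relIndex_dvd_of_le_left _ (subset_normalClosure.trans h)))
  have e : res T = perfCore C := le_antisymm (le_perfCore hle (res_perfect T))
    (le_perfCore ((perfCore_le C).trans fun x hx t ht => hx t (subset_normalClosure ht)) (perfCore_perfect C))
  rw [e]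
  exact perfCore_normal inferInstance

/-- Goldschmidt's theorem makes `O(G) C(T)^∞` normal for every strongly closed `T`. -/
theorem main (hG : Gold.{u}) (X : Type u) [Group X] [Finite X] : Stmt X := by
  suffices h : ∀ n (X : Type u) [Group X] [Finite X], Nat.card X = n → Stmt X from h _ X rfl
  intro n
  induction n using Nat.strong_induction_on with
  | _ n ih =>
  intro G _ _ hn S T hT
  replace ih : ∀ (Y : Type u) [Group Y] [Finite Y], Nat.card Y < Nat.card G → Stmt Y :=
    fun Y _ _ h => ih _ (hn ▸ h) Y rfl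
  haveI : Fact (Nat.Prime 2) := ⟨Nat.prime_two⟩
  by_cases hO : pPrimeCore 2 G = ⊥
  swap
  · exact oddCore_case ih hO hT
  rw [hO, bot_sup_eq]
  by_cases hT1 : T = ⊥
  · rw [hT1, res_bot]; exact perfCore_top_normal
  by_cases hc : ∃ z ∈ T, orderOf z = 2 ∧ z ∈ center G
  · obtain ⟨z, hz, hz2, hzc⟩ := hc
    exact central_case ih hO hT hz hz2 hzc
  push Not at hc
  obtain ⟨z, hz, hz2, hzS⟩ := exists_central_in_normal S.2 hT.1
    (fun s hs => mem_normalizer_iff.mpr (conj_closed hT (mem_conj_iff _ hs))) hT1
  have hR := (setting_of_ih ih hT hz hzS (hc z hz hz2)).res_closed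
  by_cases hi : invol T = ⊥
  · exact disjoint_case hO hT hR hi
  · exact res_normal_of_invol hG ih hO hc hT hR hi

/-- The statement S1173 over Goldschmidt's theorem S1169. -/
theorem normal_derived (hG : Gold.{u}) (hO : oddCore G = ⊥) (S : Sylow 2 G) (T : Subgroup G)
    (hT : IsStronglyClosed T (S : Subgroup G)) :
    ((⨅ n : ℕ, derivedSeries ↥(centralizer (T : Set G)) n).map (centralizer (T : Set G)).subtype).Normal := by
  rw [derived_eq_perfCore]
  have h := main hG G S T hT
  rw [show pPrimeCore 2 G = ⊥ from hO, bot_sup_eq] at h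
  exact h

end CfsgLib.ClosedCentral
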