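import Cfsg.Agent.Lib.CentralInt.Quot
import Cfsg.Agent.Lib.Comp.PCompMore
import Cfsg.Agent.Lib.ExtremelyClosed.Descent

/-!
The perfect residual of the centraliser of a subgroup and its behaviour under maps.
-/

set_option autoImplicit false
set_option linter.unusedSectionVars false
set_option linter.style.haveILetI false

namespace CfsgLib.ClosedCentral

open Cfsg Subgroup CfsgLib.Comp
open CfsgLib.CentralInt (perfCore le_perfCore perfCore_le perfCore_perfect perfCore_conj exists_perfect_onto)
open scoped commutatorElement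

universe u v

variable {G : Type u} [Group G]

/-- The perfect residual of the centraliser of `T`. -/
def res (T : Subgroup G) : Subgroup G := perfCore (centralizer (T : Set G))

theorem res_le (T : Subgroup G) : res T ≤ centralizer (T : Set G) := perfCore_le _

theorem res_perfect (T : Subgroup G) : ⁅res T, res T⁆ = res T := perfCore_perfect _

theorem res_commute {T : Subgroup G} {h t : G} (hh : h ∈ res T) (ht : t ∈ T) : t * h = h * t :=
  res_le T hh t ht

theorem res_bot : res (⊥ : Subgroup G) = perfCore ⊤ := by
  show perfCore _ = perfCore _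
  congr 1
  refine eq_top_iff.mpr fun x _ b hb => ?_
  rw [mem_bot.mp hb, one_mul, mul_one]

theorem perfCore_mono {C D : Subgroup G} (h : C ≤ D) : perfCore C ≤ perfCore D :=
  le_perfCore ((perfCore_le C).trans h) (perfCore_perfect C)

/-- The perfect residual commutes with injective maps. -/
theorem perfCore_map_injective {A : Type v} [Group A] (f : A →* G) (hf : Function.Injective f) (C : Subgroup A) :
    (perfCore C).map f = perfCore (C.map f) := by
  refine le_antisymm (le_perfCore (map_mono (perfCore_le C)) (by rw [← map_commutator, perfCore_perfect])) ?_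
  refine sSup_le fun P hP => ?_
  have hPf : (P.comap f).map f = P := map_comap_eq_self (hP.1.trans (map_le_range f C))
  refine hPf.ge.trans (map_mono (le_perfCore ?_ (map_injective hf ?_)))
  · exact (comap_mono hP.1).trans (comap_map_eq_self_of_injective hf C).le
  · rw [map_commutator, hPf, hP.2]

/-- The perfect residual commutes with surjective maps. -/
theorem perfCore_map_surjective [Finite G] {B : Type v} [Group B] (f : G →* B) (C : Subgroup G) :
    (perfCore C).map f = perfCore (C.map f) := by
  refine le_antisymm (le_perfCore (map_mono (perfCore_le C)) (by rw [← map_commutator, perfCore_perfect])) ?_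
  refine sSup_le fun P hP => ?_
  obtain ⟨M, hM, hMP⟩ := exists_perfect_onto (f.subgroupMap C) (f.subgroupMap_surjective C)
    (K := P.subgroupOf (C.map f)) (map_injective (C.map f).subtype_injective (by
      rw [map_commutator, map_subgroupOf_eq_of_le hP.1, hP.2]))
  have hle : M.map C.subtype ≤ perfCore C :=
    le_perfCore (map_subtype_le M) (by rw [← map_commutator, hM])
  refine le_trans ?_ (map_mono hle)
  intro p hp
  obtain ⟨m, hm, e⟩ : (⟨p, hP.1 hp⟩ : C.map f) ∈ M.map (f.subgroupMap C) := hMP.ge hp
  exact ⟨m, ⟨m, hm, rfl⟩, congrArg Subtype.val e⟩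

/-- A normal subgroup has normal perfect residual. -/
theorem perfCore_normal {C : Subgroup G} (hC : C.Normal) : (perfCore C).Normal := by
  refine ⟨fun x hx g => ?_⟩
  refine (le_perfCore (P := (perfCore C).map (MulAut.conj g).toMonoidHom) ?_ ?_) ⟨x, hx, rfl⟩
  · rintro _ ⟨y, hy, rfl⟩
    exact hC.conj_mem y (perfCore_le C hy) g
  · rw [← map_commutator, perfCore_perfect]

/-- An element normalising `T` normalises the residual. -/
theorem res_conj {T : Subgroup G} {g : G} (hg : ∀ t, t ∈ T ↔ g * t * g⁻¹ ∈ T) {h : G} (hh : h ∈ res T) :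
    g * h * g⁻¹ ∈ res T := by
  refine (le_perfCore (P := (res T).map (MulAut.conj g).toMonoidHom) ?_ ?_) ⟨h, hh, rfl⟩
  · rintro _ ⟨y, hy, rfl⟩ t ht
    have h1 : g⁻¹ * t * g ∈ T := by
      rw [hg]; simpa [mul_assoc] using ht
    have h2 := res_le T hy _ h1
    show t * (g * y * g⁻¹) = g * y * g⁻¹ * t
    calc t * (g * y * g⁻¹) = g * (g⁻¹ * t * g * y) * g⁻¹ := by group
      _ = g * (y * (g⁻¹ * t * g)) * g⁻¹ := by rw [h2]
      _ = _ := by group
  · rw [← map_commutator, res_perfect]

/-- The largest perfect subgroup of the terms of the derived series. -/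
theorem derived_eq_perfCore [Finite G] (C : Subgroup G) :
    (⨅ n : ℕ, derivedSeries ↥C n).map C.subtype = perfCore C := by
  set D := ⨅ n : ℕ, derivedSeries ↥C n with hD
  have hanti : Antitone (derivedSeries ↥C) := antitone_nat_of_succ_le fun n => by
    rw [derivedSeries_succ]; exact commutator_le_self _
  obtain ⟨N, hN⟩ : ∃ N, ∀ n, N ≤ n → derivedSeries ↥C N = derivedSeries ↥C n := by
    obtain ⟨_, ⟨N, rfl⟩, hmin⟩ :=
      (Set.toFinite (Set.range (derivedSeries ↥C))).exists_minimal (Set.range_nonempty _)
    exact ⟨N, fun n hn => le_antisymm (hmin ⟨n, rfl⟩ (hanti hn)) (hanti hn)⟩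
  have hDN : D = derivedSeries ↥C N := le_antisymm (iInf_le _ N) (le_iInf fun n => by
    rcases le_total N n with h | h
    · exact (hN n h).le
    · exact hanti h)
  refine le_antisymm (le_perfCore (map_subtype_le D) ?_) ?_
  · rw [← map_commutator, hDN, ← derivedSeries_succ, ← hN (N + 1) N.le_succ]
  · have key : ∀ n, (perfCore C).subgroupOf C ≤ derivedSeries ↥C n := fun n => by
      induction n with
      | zero => rw [derivedSeries_zero]; exact le_top
      | succ n ih =>
        rw [derivedSeries_succ]
        refine le_trans ?_ (commutator_mono ih ih)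
        refine (map_injective C.subtype_injective ?_).ge
        rw [map_commutator, map_subgroupOf_eq_of_le (perfCore_le C), perfCore_perfect]
    exact (map_subgroupOf_eq_of_le (perfCore_le C)).ge.trans (map_mono (le_iInf key))

variable [Finite G]

/-- The centraliser of a 2-group maps onto the centraliser of its image modulo the odd core. -/
theorem map_centralizer_bar {T : Subgroup G} (hT : IsPGroup 2 T) :
    (centralizer (T : Set G)).map (bar 2 G) = centralizer ((T.map (bar 2 G) : Subgroup _) : Set (G ⧸ pPrimeCore 2 G)) := by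
  haveI : Fact (Nat.Prime 2) := ⟨Nat.prime_two⟩
  refine le_antisymm ?_ fun z hz => ?_
  · rintro _ ⟨c, hc, rfl⟩ _ ⟨t, ht, rfl⟩
    rw [← map_mul, ← map_mul, hc t ht]
  obtain ⟨c, rfl⟩ := bar_surjective 2 z
  obtain ⟨c', hc', e⟩ := exists_centralizing_lift hT c (centralizer_le_normalizer' _ hz)
  refine ⟨c', centralizes_of_bar hT hc' fun t ht => ?_, e⟩
  rw [e]
  exact (hz _ ⟨t, ht, rfl⟩).symm

theorem res_map_bar {T : Subgroup G} (hT : IsPGroup 2 T) :
    (res T).map (bar 2 G) = res (T.map (bar 2 G)) := by
  show (perfCore _).map _ = perfCore _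
  rw [perfCore_map_surjective, map_centralizer_bar hT]

/-- A quotient by a central subgroup inside `T` does not change the residual. -/
theorem res_map_central {T Z : Subgroup G} [Z.Normal] (hZT : Z ≤ T) (hZc : Z ≤ center G) :
    (res T).map (QuotientGroup.mk' Z) = res (T.map (QuotientGroup.mk' Z)) := by
  set π := QuotientGroup.mk' Z
  set C' := (centralizer ((T.map π : Subgroup _) : Set (G ⧸ Z))).comap π with hC'
  have hZ' : ⁅C', T⁆ ≤ Z := by
    rw [commutator_le]
    intro x hx t ht
    rw [← QuotientGroup.eq_one_iff, ← QuotientGroup.mk'_apply, map_commutatorElement,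
      commutatorElement_eq_one_iff_mul_comm]
    exact (hx _ ⟨t, ht, rfl⟩).symm
  have hZC : ⁅Z, C'⁆ = ⊥ := commutator_eq_bot_iff_le_centralizer.mpr fun z hz x _ => mem_center_iff.mp (hZc hz) x
  have h1 : ⁅⁅C', T⁆, C'⁆ = ⊥ := le_bot_iff.mp (hZC ▸ commutator_mono hZ' le_rfl)
  have h2 : ⁅⁅T, C'⁆, C'⁆ = ⊥ := by rw [commutator_comm T C']; exact h1
  have h3 : ⁅⁅C', C'⁆, T⁆ = ⊥ := commutator_commutator_eq_bot_of_rotate h1 h2
  have hle : perfCore C' ≤ res T := le_perfCore
    ((perfCore_perfect C').ge.trans ((commutator_mono (perfCore_le C') (perfCore_le C')).trans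
      (commutator_eq_bot_iff_le_centralizer.mp h3))) (perfCore_perfect C')
  refine le_antisymm (le_perfCore ?_ (by rw [← map_commutator, res_perfect])) ?_
  · rintro _ ⟨h, hh, rfl⟩ _ ⟨t, ht, rfl⟩
    rw [← map_mul, ← map_mul, res_commute hh ht]
  · refine le_trans ?_ (map_mono hle)
    rw [perfCore_map_surjective, hC', map_comap_eq_self_of_surjective (QuotientGroup.mk'_surjective Z)]
    exact le_rfl

/-- A perfect subgroup lies in a normal subgroup of itself of odd index. -/
theorem le_of_odd_relIndex {H N : Subgroup G} (hH : ⁅H, H⁆ = H) (hn : H ≤ normalizer (N : Set G))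
    (hodd : Odd (N.relIndex H)) : H ≤ N := by
  haveI : (N.subgroupOf H).Normal := normal_subgroupOf_of_le_normalizer hn
  have h := CfsgLib.CentralInt.perfect_le_of_index_odd (A := H) (P := ⊤) (N := N.subgroupOf H)
    (map_injective H.subtype_injective (by
      rw [map_commutator, ← MonoidHom.range_eq_map, range_subtype, hH])) hodd
  exact subgroupOf_eq_top.mp (top_le_iff.mp h)

end CfsgLib.ClosedCentral
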